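import Cfsg.Agent.G2Square.Cent

/-!
# Absorbing the unipotent parts into two conjugates of a companion element
-/

set_option autoImplicit false

namespace CfsgLib.G2Square

open Cfsg.Lie CfsgLib CfsgLib.Chevalley
open scoped MatrixGroups

variable {F : Type*} [Field F] [Fintype F]

/-- The element `g` is a product of two conjugates of `x`. -/
def Sq (x g : GL chevG2.Idx F) : Prop :=
  ∃ u ∈ chevG2.group F, ∃ v ∈ chevG2.group F, g = conj u x * conj v x

omit [Fintype F] in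
theorem Sq.conjugate {x g : GL chevG2.Idx F} {h : GL chevG2.Idx F} (hh : h ∈ chevG2.group F)
    (hs : Sq x g) : Sq x (conj h g) := by
  obtain ⟨u, hu, v, hv, rfl⟩ := hs
  exact ⟨h * u, mul_mem hh hu, h * v, mul_mem hh hv, by simp only [conj]; group⟩

omit [Fintype F] in
theorem Sq.of_conj {x g : GL chevG2.Idx F} {h : GL chevG2.Idx F} (hh : h ∈ chevG2.group F)
    (hs : Sq x (conj h g)) : Sq x g := by
  have := hs.conjugate (inv_mem hh)
  rwa [conj_conj, inv_mul_cancel, show conj 1 g = g by simp [conj]] at this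

omit [Fintype F] in
/-- A map with no fixed point gives a surjective twisted commutator. -/
theorem exists_twist {G : Type*} [Group G] [Finite G] (U : Subgroup G) {a : G}
    (hU : ∀ w ∈ U, conj a w ∈ U) (hfix : ∀ w ∈ U, conj a w = w → w = 1) {v : G} (hv : v ∈ U) :
    ∃ w ∈ U, v * a = conj w a := by
  let f : U → U := fun w => ⟨(w : G) * conj a (w : G)⁻¹, mul_mem w.2 (hU _ (inv_mem w.2))⟩
  have hf : Function.Injective f := by
    intro w1 w2 e
    have e' : (w1 : G) * conj a (w1 : G)⁻¹ = (w2 : G) * conj a (w2 : G)⁻¹ := congrArg Subtype.val e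
    have h := hfix ((w2 : G)⁻¹ * w1) (mul_mem (inv_mem w2.2) w1.2) (by
      calc conj a ((w2 : G)⁻¹ * w1)
          = conj a (w2 : G)⁻¹ * (conj a (w1 : G)⁻¹)⁻¹ := by simp only [conj]; group
        _ = conj a (w2 : G)⁻¹ * ((w2 : G) * conj a (w2 : G)⁻¹)⁻¹ * w1 := by rw [← e']; group
        _ = _ := by group)
    exact Subtype.ext (inv_mul_eq_one.1 h).symm
  obtain ⟨w, hw⟩ := Finite.surjective_of_injective hf ⟨v, hv⟩
  refine ⟨w, w.2, ?_⟩
  rw [show v = (w : G) * conj a (w : G)⁻¹ from (congrArg Subtype.val hw).symm]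
  simp only [conj]; group

omit [Fintype F] in
/-- The same on the other side. -/
theorem exists_twist' {G : Type*} [Group G] [Finite G] (U : Subgroup G) {b : G}
    (hU : ∀ w ∈ U, conj b w ∈ U) (hU' : ∀ w ∈ U, conj b⁻¹ w ∈ U)
    (hfix : ∀ w ∈ U, conj b w = w → w = 1) {u : G} (hu : u ∈ U) :
    ∃ w ∈ U, b * u = conj w b := by
  obtain ⟨w, hw, e⟩ := exists_twist U (a := b) hU hfix (v := conj b u) (hU u hu)
  exact ⟨w, hw, by rw [← e, conj]; group⟩

/-- The classes of `X` and of its inverse. -/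
def InCl (X A : GL (Fin 2) F) : Prop := IsConj X A ∨ IsConj X⁻¹ A

/-- `C` is a product of two elements from those classes. -/
def Good (X C : GL (Fin 2) F) : Prop := ∃ A B, InCl X A ∧ InCl X B ∧ A * B = C

/-- The hypotheses on the parameters. -/
structure Param (N : Fˣ) (s : F) : Prop where
  h1 : 1 - s + (N : F) ≠ 0
  h2 : (N : F) ≠ 1
  h3 : 1 - s * N + (N : F) ^ 3 ≠ 0

variable (N : Fˣ) (s : F)

/-- The companion element. -/
abbrev X0 : GL (Fin 2) F := comp (N : F) s N.ne_zero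

/-- Its image. -/
noncomputable abbrev x0 : GL chevG2.Idx F := Phi (X0 N s)

omit [Fintype F] in
theorem X0_inv_val : (((X0 N s)⁻¹ : GL (Fin 2) F) : Matrix (Fin 2) (Fin 2) F) =
    !![s / N, 1; -(N : F)⁻¹, 0] := by
  refine Units.inv_eq_of_mul_eq_one_right ?_
  show !![(0 : F), -(N : F); 1, s] * _ = 1
  ext i j; fin_cases i <;> fin_cases j <;> simp [Matrix.mul_apply, Fin.sum_univ_two] <;> field_simp <;> ring

omit [Fintype F] in
theorem X0_inv_det :
    (((X0 N s)⁻¹ : GL (Fin 2) F) : Matrix (Fin 2) (Fin 2) F).det = (N : F)⁻¹ := by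
  rw [X0_inv_val, Matrix.det_fin_two_of]; simp

omit [Fintype F] in
theorem X0_inv_trace :
    (((X0 N s)⁻¹ : GL (Fin 2) F) : Matrix (Fin 2) (Fin 2) F).trace = s / N := by
  rw [X0_inv_val, trace_two]; simp

omit [Fintype F] in
theorem X0_inv_nonScalar :
    NonScalar (((X0 N s)⁻¹ : GL (Fin 2) F) : Matrix (Fin 2) (Fin 2) F) := by
  rw [X0_inv_val]; exact Or.inl (by simp)

omit [Fintype F] in
/-- The element is conjugate to its inverse. -/
theorem x0_real : ∃ r ∈ chevG2.group F, conj r (x0 N s) = (x0 N s)⁻¹ := by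
  set Y := dg (dt (X0 N s))⁻¹ (dt (X0 N s))⁻¹ * X0 N s
  have hdt : dt (X0 N s) = N := Units.ext (by simp [dt, comp_det])
  have hn : (N : F) ≠ 0 := N.ne_zero
  have hval : (Y : Matrix (Fin 2) (Fin 2) F) = !![0, -1; (N : F)⁻¹, s * (N : F)⁻¹] := by
    simp only [Y, hdt]
    show !![((N⁻¹ : Fˣ) : F), 0; 0, ((N⁻¹ : Fˣ) : F)] * !![0, -(N : F); 1, s] = _
    ext i j; fin_cases i <;> fin_cases j <;> simp [Matrix.mul_apply, Fin.sum_univ_two, mul_comm]
  have h : IsConj Y (X0 N s)⁻¹ := by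
    refine isConj_of_eq (Or.inr (Or.inl ?_)) (X0_inv_nonScalar N s) ?_ ?_
    · rw [hval]; simp
    · rw [hval, X0_inv_det, Matrix.det_fin_two_of]; simp
    · rw [hval, X0_inv_trace, trace_two]; simp [div_eq_mul_inv]
  obtain ⟨P, hP⟩ := isConj_iff.1 h
  refine ⟨Phi P * np, mul_mem (Phi_mem_group _) np_mem_group, ?_⟩
  rw [← conj_conj, np_conj_Phi, x0, ← map_inv Phi, ← hP]
  show conj (Phi P) (Phi Y) = _
  simp only [conj, map_mul, map_inv]

variable {N s}

omit [Fintype F] in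
/-- A conjugate of `x` or of `x⁻¹` is a conjugate of `x`. -/
theorem exists_conj_x0 {A : GL (Fin 2) F} (hA : InCl (X0 N s) A) :
    ∃ r ∈ chevG2.group F, Phi A = conj r (x0 N s) := by
  rcases hA with h | h <;> obtain ⟨P, rfl⟩ := isConj_iff.1 h
  · exact ⟨Phi P, Phi_mem_group _, by simp [conj, map_mul]⟩
  · obtain ⟨r, hr, e⟩ := x0_real N s
    exact ⟨Phi P * r, mul_mem (Phi_mem_group _) hr, by rw [← conj_conj, e]; simp [conj, map_mul]⟩

omit [Fintype F] in
/-- Conjugates of `x` and `x⁻¹` fix only `1` in a radical. -/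
theorem fix_eq_one {L : List ℕ} (hL : Stable L)
    (hcent : ∀ w ∈ rs F L, conj (x0 N s) w = w → w = 1)
    {A : GL (Fin 2) F} (hA : InCl (X0 N s) A) {w : GL chevG2.Idx F} (hw : w ∈ rs F L)
    (hfix : conj (Phi A) w = w) : w = 1 := by
  have key : ∀ P : GL (Fin 2) F, conj (Phi (P * X0 N s * P⁻¹)) w = w → w = 1 := by
    intro P hfix'
    have h' : conj (Phi P)⁻¹ w ∈ rs F L := by
      rw [← map_inv]; exact Phi_conj_rs hL _ hw
    have e : conj (Phi P)⁻¹ w = 1 := by
      refine hcent _ h' ?_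
      calc conj (x0 N s) (conj (Phi P)⁻¹ w)
          = conj (Phi P)⁻¹ (conj (Phi (P * X0 N s * P⁻¹)) w) := by
            simp only [conj, map_mul, map_inv]; group
        _ = _ := by rw [hfix']
    calc w = conj (Phi P) (conj (Phi P)⁻¹ w) := by simp only [conj]; group
      _ = 1 := by rw [e]; simp [conj]
  rcases hA with h | h <;> obtain ⟨P, rfl⟩ := isConj_iff.1 h
  · exact key P hfix
  · refine key P ?_
    rw [show P * X0 N s * P⁻¹ = (P * (X0 N s)⁻¹ * P⁻¹)⁻¹ by group, map_inv]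
    generalize Phi (P * (X0 N s)⁻¹ * P⁻¹) = y at hfix ⊢
    conv_lhs => rw [← hfix]
    simp only [conj]; group

/-- The main absorption step. -/
theorem sq_of_good (hp : Param N s) {C : GL (Fin 2) F} (hC : Good (X0 N s) C)
    {v u : GL chevG2.Idx F} (hv : v ∈ rs F [0, 1, 2, 3, 4]) (hu : u ∈ rs F [7, 8, 9, 10, 11]) :
    Sq (x0 N s) (v * Phi C * u) := by
  classical
  obtain ⟨A, B, hA, hB, rfl⟩ := hC
  obtain ⟨w1, hw1, e1⟩ := exists_twist (rs F [0, 1, 2, 3, 4]) (a := Phi A)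
    (fun w hw => Phi_conj_rs stable_neg _ hw)
    (fun w hw h => fix_eq_one stable_neg (fun z hz hz' => cent_neg N s hp.h1 hp.h2 hp.h3 hz hz') hA hw h) hv
  obtain ⟨w2, hw2, e2⟩ := exists_twist' (rs F [7, 8, 9, 10, 11]) (b := Phi B)
    (fun w hw => Phi_conj_rs stable_pos _ hw)
    (fun w hw => by rw [← map_inv]; exact Phi_conj_rs stable_pos _ hw)
    (fun w hw h => fix_eq_one stable_pos (fun z hz hz' => cent_pos N s hp.h1 hp.h2 hp.h3 hz hz') hB hw h) hu
  obtain ⟨r1, hr1, f1⟩ := exists_conj_x0 hA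
  obtain ⟨r2, hr2, f2⟩ := exists_conj_x0 hB
  refine ⟨w1 * r1, mul_mem (rs_le_group _ hw1) hr1, w2 * r2, mul_mem (rs_le_group _ hw2) hr2, ?_⟩
  rw [map_mul, show v * (Phi A * Phi B) * u = v * Phi A * (Phi B * u) by group, e1, e2, f1, f2,
    conj_conj, conj_conj]

end CfsgLib.G2Square
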