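import Cfsg.Agent.G2Square.BigCell
import Cfsg.Agent.Chevalley.WeylData
import Cfsg.Agent.Chevalley.Parabolic

/-!
# Root sets, torus and commutator rules of G2
-/

set_option autoImplicit false

namespace CfsgLib.G2Square

open Cfsg.Lie CfsgLib CfsgLib.Chevalley
open scoped MatrixGroups

theorem hW : GoodWeyl chevG2 := goodWeyl_of_mem (by simp)

variable {F : Type*} [Field F]

/-- The roots, numbered as in the table: 6 long simple, 7 short simple. -/
def rt (k : Fin 12) : Root chevG2 := ⟨k.1, k.2⟩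

/-- Root elements. -/
def x (k : Fin 12) (t : F) : GL chevG2.Idx F := X hW.good (rt k) t

/-- The short simple reflection. -/
abbrev i0 : Fin chevG2.rank := ⟨0, by decide⟩

/-- The long simple reflection. -/
abbrev i1 : Fin chevG2.rank := ⟨1, by decide⟩

theorem pRoot_zero : pRoot hW i0 = rt 7 := Fin.ext rfl

theorem pRoot_one : pRoot hW i1 = rt 6 := Fin.ext rfl

theorem x_zero (k : Fin 12) : x k (0 : F) = 1 := X_zero _ _

theorem x_add (k : Fin 12) (s t : F) : x k s * x k t = x k (s + t) := X_mul _ _ _ _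

theorem x_inv (k : Fin 12) (t : F) : (x k t)⁻¹ = x k (-t) := X_inv _ _ _

theorem x_mem_group (k : Fin 12) (t : F) : x k t ∈ chevG2.group F := X_mem_group _ _ _

/-- Conjugation. -/
def conj {G : Type*} [Group G] (a b : G) : G := a * b * a⁻¹

/-! ### Root sets -/

/-- The subgroup generated by the root subgroups with the listed indices. -/
def rs (F : Type*) [Field F] (L : List ℕ) : Subgroup (GL chevG2.Idx F) :=
  rootGen hW.good F {r | (r : ℕ) ∈ L}

theorem x_mem_rs {k : Fin 12} {L : List ℕ} (h : (k : ℕ) ∈ L) (t : F) : x k t ∈ rs F L :=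
  X_mem_rootGen _ (S := {r : Root chevG2 | (r : ℕ) ∈ L}) h _

theorem rs_mono {L L' : List ℕ} (h : L ⊆ L') : rs F L ≤ rs F L' :=
  rootGen_mono _ fun _ hr => h hr

theorem rs_nil : rs F [] = ⊥ := by
  refine le_bot_iff.1 (rootGen_le _ fun r hr => ?_)
  simp at hr

theorem pos_eq : chevG2.posUnipotent F = rs F [6, 7, 8, 9, 10, 11] := by
  rw [posUnipotent_eq_rootGen hW.good, rs]
  congr 1
  ext r
  have hl : (r : ℕ) < 12 := r.isLt
  simp only [posSet, Set.mem_setOf_eq, List.mem_cons, List.not_mem_nil, or_false,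
    show half chevG2 = 6 from rfl]
  omega

theorem neg_eq : chevG2.negUnipotent F = rs F [0, 1, 2, 3, 4, 5] := by
  rw [negUnipotent_eq_rootGen hW.good, rs]
  congr 1
  ext r
  simp only [negSet, Set.mem_setOf_eq, List.mem_cons, List.not_mem_nil, or_false,
    show half chevG2 = 6 from rfl]
  omega

theorem rs_le_group (L : List ℕ) : rs F L ≤ chevG2.group F :=
  rootGen_le _ fun r _ t => X_mem_group _ _ _

/-- The table check that `X_a` normalises the group of `L`. -/
def chk (a : ℕ) (L : List ℕ) : Bool :=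
  L.all fun r => r == a || (r + a != 11 && (chevG2.commTerms a r).all fun c => L.contains c.1)

theorem conj_mem_rs {a : Fin 12} {L : List ℕ} (h : chk a L = true) (v : F) {u : GL chevG2.Idx F}
    (hu : u ∈ rs F L) : conj (x a v) u ∈ rs F L := by
  refine (rootGen_le hW.good (K := (rs F L).comap (MulAut.conj (x a v)).toMonoidHom) fun r hr t => ?_) hu
  show x a v * X hW.good r t * (x a v)⁻¹ ∈ rs F L
  have hr' := List.all_eq_true.1 h (r : ℕ) hr
  simp only [Bool.or_eq_true, beq_iff_eq, Bool.and_eq_true, bne_iff_ne, List.all_eq_true,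
    List.contains_iff_mem] at hr'
  rcases eq_or_ne (r : ℕ) (a : ℕ) with e | hne
  · obtain rfl : r = rt a := Fin.ext e
    rw [x, X_mul, X_inv, X_mul, show v + t + -v = t by ring]
    exact X_mem_rootGen _ (S := {r : Root chevG2 | (r : ℕ) ∈ L}) hr _
  · obtain ⟨h11, hterms⟩ := hr'.resolve_left hne
    have e := X_comm hW.toGoodComm (rt a) r (fun e => hne (congrArg Fin.val e)) (fun e => by
      have e' := congrArg Fin.val e
      simp only [Fin.val_rev, rt] at e'
      have ha := a.2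
      simp only [show chevG2.nroots = 12 from rfl] at e'
      omega) (-v) t
    have e2 : x a v * X hW.good r t * (x a v)⁻¹ = X hW.good r t * commRhs hW.good (rt a) r (-v) t := by
      calc x a v * X hW.good r t * (x a v)⁻¹ = x a v * (X hW.good r t * x a (-v)) := by
            rw [x_inv, mul_assoc]
        _ = x a v * (x a (-v) * X hW.good r t * commRhs hW.good (rt a) r (-v) t) := congrArg _ e
        _ = _ := by rw [← mul_assoc, ← mul_assoc, x_add, add_neg_cancel, x_zero, one_mul]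
    rw [e2]
    refine mul_mem (X_mem_rootGen _ (S := {r : Root chevG2 | (r : ℕ) ∈ L}) hr _) ?_
    refine Subgroup.list_prod_mem _ fun y hy => ?_
    obtain ⟨p, hp, rfl⟩ := List.mem_map.1 hy
    obtain ⟨c, hc, rfl⟩ := List.mem_map.1 hp
    split
    · rename_i hlt
      exact X_mem_rootGen _ (S := {r : Root chevG2 | (r : ℕ) ∈ L}) (hterms c hc) _
    · exact one_mem _

/-- Splitting off the first root. -/
theorem exists_split {a : Fin 12} {L : List ℕ} (h : chk a L = true) {u : GL chevG2.Idx F}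
    (hu : u ∈ rs F ((a : ℕ) :: L)) : ∃ e : F, ∃ w ∈ rs F L, u = x a e * w := by
  induction hu using Subgroup.closure_induction with
  | mem y hy =>
    obtain ⟨r, hr, t, rfl⟩ := hy
    rcases List.mem_cons.1 hr with e | e
    · exact ⟨t, 1, one_mem _, by rw [mul_one, x, show r = rt a from Fin.ext e]⟩
    · exact ⟨0, _, X_mem_rootGen _ (S := {r : Root chevG2 | (r : ℕ) ∈ L}) e t, by rw [x_zero, one_mul]⟩
  | one => exact ⟨0, 1, one_mem _, by rw [x_zero, mul_one]⟩
  | mul y z _ _ hy hz =>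
    obtain ⟨e, w, hw, rfl⟩ := hy
    obtain ⟨e', w', hw', rfl⟩ := hz
    refine ⟨e + e', _, mul_mem (conj_mem_rs h (-e') hw) hw', ?_⟩
    rw [conj, ← x_add, x_inv, neg_neg, ← x_inv]
    group
  | inv y _ hy =>
    obtain ⟨e, w, hw, rfl⟩ := hy
    refine ⟨-e, _, conj_mem_rs h e (inv_mem hw), ?_⟩
    rw [conj, ← x_inv]
    group

/-- Splitting off the last factor. -/
theorem exists_split' {a : Fin 12} {L : List ℕ} (h : chk a L = true) {u : GL chevG2.Idx F}
    (hu : u ∈ rs F ((a : ℕ) :: L)) : ∃ e : F, ∃ w ∈ rs F L, u = w * x a e := by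
  obtain ⟨e, w, hw, e'⟩ := exists_split h (inv_mem hu)
  exact ⟨-e, w⁻¹, inv_mem hw, by rw [← inv_inv u, e', _root_.mul_inv_rev, x_inv]⟩

/-! ### Reflections -/

/-- The two fundamental reflecting elements. -/
def n (i : Fin chevG2.rank) : GL chevG2.Idx F := nR hW i

theorem n_mem_group (i : Fin chevG2.rank) : (n i : GL chevG2.Idx F) ∈ chevG2.group F := Chevalley.nR_mem_group hW i

theorem n_conj_rs {i : Fin chevG2.rank} {L L' : List ℕ}
    (h : (L.all fun r => L'.contains (chevG2.reflectRoot i r)) = true)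
    {u : GL chevG2.Idx F} (hu : u ∈ rs F L) : conj (n i) u ∈ rs F L' := by
  refine (monBy_nR (F := F) hW i).conj_rootGen (fun r hr => ?_) hu
  show ((wPerm hW i r : Root chevG2) : ℕ) ∈ L'
  rw [hW.wPerm_val]
  exact List.contains_iff_mem.1 (List.all_eq_true.1 h (r : ℕ) hr)

theorem n_conj_x (i : Fin chevG2.rank) {k k' : Fin 12} {z : ℤ} (h : chevG2.reflectRoot i k = k')
    (hz : etaT chevG2 i k = z) (t : F) : conj (n i) (x k t) = x k' ((z : F) * t) := by
  show nR hW i * X hW.good (rt k) t * (nR hW i)⁻¹ = _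
  rw [nR_conj, show wPerm hW i (rt k) = rt k' from Fin.ext ((hW.wPerm_val i _).trans h),
    show eta chevG2 i (rt k) = z from hz]
  rfl

/-! ### The torus -/

/-- The element with coordinates `c0`, `c1` on the two fundamental coroots. -/
def tr (c0 c1 : Fˣ) : GL chevG2.Idx F := torC chevG2 fun k => if (k : ℕ) = 0 then c0 else c1

theorem tr_mul (a b c d : Fˣ) : tr a b * tr c d = tr (a * c) (b * d) := by
  rw [tr, tr, torC_mul, tr]
  congr 1
  funext k
  by_cases h : (k : ℕ) = 0 <;> simp [h]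

theorem tr_one : (tr 1 1 : GL chevG2.Idx F) = 1 := by
  have h : (fun k : Fin chevG2.rank => if (k : ℕ) = 0 then (1 : Fˣ) else 1) = 1 := by
    funext k; simp
  rw [tr, h]
  exact (torHom chevG2 F).map_one

theorem tr_eq (c0 c1 : Fˣ) : tr c0 c1 = hT F (rt 7) c0 * hT F (rt 6) c1 := by
  rw [tr, torC_eq_prod hW]
  show (([i0, i1]).map fun k => hT F (pRoot hW k) (if (k : ℕ) = 0 then c0 else c1)).prod = _
  rw [List.map_cons, List.map_cons, List.map_nil, List.prod_cons, List.prod_cons, List.prod_nil,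
    pRoot_zero, pRoot_one, mul_one]
  rfl

theorem tr_inv (c0 c1 : Fˣ) : (tr c0 c1 : GL chevG2.Idx F)⁻¹ = tr c0⁻¹ c1⁻¹ :=
  inv_eq_of_mul_eq_one_right (by rw [tr_mul, mul_inv_cancel, mul_inv_cancel, tr_one])

theorem tr_mem_diag (c0 c1 : Fˣ) : tr c0 c1 ∈ chevG2.diagonalSubgroup F := by
  rw [diagonalSubgroup_eq_range hW]; exact ⟨_, rfl⟩

theorem tr_mem_group (c0 c1 : Fˣ) : tr c0 c1 ∈ chevG2.group F := diag_le_group hW (tr_mem_diag c0 c1)

theorem exists_tr {t : GL chevG2.Idx F} (ht : t ∈ chevG2.diagonalSubgroup F) : ∃ c0 c1, t = tr c0 c1 := by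
  rw [diagonalSubgroup_eq_range hW] at ht
  obtain ⟨c, rfl⟩ := ht
  refine ⟨c i0, c i1, ?_⟩
  show torC chevG2 c = _
  rw [tr]; congr 1
  funext k
  have hk : (k : ℕ) < 2 := k.isLt
  by_cases h : (k : ℕ) = 0
  · rw [if_pos h, show k = i0 from Fin.ext h]
  · rw [if_neg h, show k = i1 from Fin.ext (show (k : ℕ) = 1 by omega)]

theorem tr_conj_x (c0 c1 : Fˣ) {k : Fin 12} {a b : ℤ} (ha : chevG2.cartan 0 k = a)
    (hb : chevG2.cartan 1 k = b) (t : F) :
    conj (tr c0 c1) (x k t) = x k (((c0 ^ a * c1 ^ b : Fˣ) : F) * t) := by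
  have e0 := hT_pRoot_conj_X hW i0 c0 (rt k)
  have e1 := hT_pRoot_conj_X hW i1 c1 (rt k) t
  rw [pRoot_one] at e1
  rw [pRoot_zero] at e0
  calc conj (tr c0 c1) (x k t)
      = hT F (rt 7) c0 * (hT F (rt 6) c1 * X hW.good (rt k) t * (hT F (rt 6) c1)⁻¹) * (hT F (rt 7) c0)⁻¹ := by
        rw [conj, tr_eq]; unfold x; group
    _ = _ := by
      rw [e1, e0]
      show X hW.good (rt k) _ = X hW.good (rt k) _
      rw [← mul_assoc, ← Units.val_mul]
      congr 4
      exacts [congrArg _ ha, congrArg _ hb]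

theorem diag_conj_rs {t : GL chevG2.Idx F} (ht : t ∈ chevG2.diagonalSubgroup F) {L : List ℕ}
    {u : GL chevG2.Idx F} (hu : u ∈ rs F L) : conj t u ∈ rs F L :=
  diag_conj_rootGen hW ht hu

/-! ### Products in a unique order -/

theorem rs_le_uGe {L : List ℕ} {m : ℕ} (h : (L.all fun r => decide (6 ≤ r) && decide (m ≤ r)) = true) :
    rs F L ≤ uGe hW.good F false m := by
  refine rootGen_le _ fun r hr t => ?_
  have := List.all_eq_true.1 h (r : ℕ) hr
  simp only [Bool.and_eq_true, decide_eq_true_eq] at this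
  exact X_mem_uGe hW.good (b := false) (r := r) this.1 this.2 _

theorem uGe_le_rs {L : List ℕ} {m : ℕ}
    (h : ((List.range 12).all fun r => !(decide (6 ≤ r) && decide (m ≤ r)) || L.contains r) = true) :
    uGe hW.good F false m ≤ rs F L := by
  refine (Subgroup.closure_le _).2 ?_
  rintro _ ⟨r, h1, h2, t, rfl⟩
  have h1' : 6 ≤ (r : ℕ) := h1
  have h2' : m ≤ (r : ℕ) := h2
  have hr := List.all_eq_true.1 h (r : ℕ) (List.mem_range.2 r.isLt)
  simp [h1', h2'] at hr
  exact X_mem_rootGen _ (S := {r : Root chevG2 | (r : ℕ) ∈ L}) hr _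

theorem head_eq {m : ℕ} (hm : 6 ≤ m) (hm' : m < 12) {a b : F} {u w : GL chevG2.Idx F}
    (hu : u ∈ uGe hW.good F false (m + 1)) (hw : w ∈ uGe hW.good F false (m + 1))
    (h : x ⟨m, hm'⟩ a * u = x ⟨m, hm'⟩ b * w) : a = b ∧ u = w := by
  have key : a = b := by
    set r : Root chevG2 := rt ⟨m, hm'⟩
    obtain ⟨i, hi⟩ := hW.toGoodUni.exists_coroot_ne F r
    have e := congrArg (fun g : GL chevG2.Idx F =>
      (g : Matrix chevG2.Idx chevG2.Idx F) (Sum.inl i) (Sum.inr r.rev)) h
    simp only [x] at e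
    rw [Chevalley.entry_X_mul hW.good (b := false) (r := r) hm _ hu,
      Chevalley.entry_X_mul hW.good (b := false) (r := r) hm _ hw] at e
    exact mul_right_cancel₀ hi e
  subst key
  exact ⟨rfl, mul_left_cancel h⟩

end CfsgLib.G2Square
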