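import Cfsg.Agent.Chevalley.Bruhat
import Cfsg.Agent.Chevalley.BruhatUnique

/-!
# Every element of a Chevalley group is conjugate into the big cell
-/

set_option autoImplicit false

namespace CfsgLib.G2Square

open Cfsg.Lie CfsgLib CfsgLib.Chevalley
open scoped MatrixGroups

variable {D : ChevalleyDatum} {C : Weyl.Cert D.rank} {M : CoxeterMatrix (Fin D.rank)}
  {R : Weyl.RootTable} {F : Type*} [Field F]

/-- A nonzero `α_i`-component keeps `n_i b n_w` in the cell of `w` when `w` goes down. -/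
theorem nR_mul_nW_down (hW : GoodWeyl D) (h : Weyl.RootGood C M R) {i : Fin D.rank} {w : M.Group}
    (hw : ¬ GoesUp hW h i w) {b' : GL D.Idx F}
    (hb1 : nR hW i * b' * (nR hW i)⁻¹ ∈ D.borelSubgroup F) {t : F} (ht : t ≠ 0) :
    nR hW i * (b' * X hW.good (pRoot hW i) t) * nW hW h F w ∈ cell hW h F w := by
  obtain ⟨k, hk, e⟩ := exists_nR_mul_nW (F := F) hW h i w
  have e1 := nR_conj_X_pRoot hW i (Units.mk0 t ht)
  rw [Units.val_mk0] at e1
  set y : F := -(((Units.mk0 t ht)⁻¹ : Fˣ) : F)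
  have hup := not_goesUp_simple_mul hW h i w hw
  have h2 : nR hW i * X hW.good (pRoot hW i) y * (nR hW i * nW hW h F w) ∈ cell hW h F w := by
    rw [e, show ∀ n x m k : GL D.Idx F, n * x * (m * k) = n * x * m * k from
      fun n x m k => by group]
    refine cell_mul_borel_mem hW h ?_ (diag_le_borel D hk)
    have := nR_mul_nW_up hW h hup (X_pRoot_mem_borel hW i y)
    rwa [← mul_assoc, show M.simple i * M.simple i = 1 from
      M.toCoxeterSystem.simple_mul_simple_self i, one_mul] at this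
  have h3 := borel_mul_mem_cell hW h (mul_mem hb1 (mul_mem (X_pRoot_mem_borel hW i y)
    (diag_le_borel D (hT_mem_diagonal hW (pRoot hW i) (Units.mk0 t ht)⁻¹)))) h2
  rw [show nR hW i * (b' * X hW.good (pRoot hW i) t) * nW hW h F w =
    nR hW i * b' * (nR hW i)⁻¹ * (nR hW i * X hW.good (pRoot hW i) t * (nR hW i)⁻¹) *
      (nR hW i * nW hW h F w) by group, e1]
  convert h3 using 1
  group

/-- For every `w` some element of `B` moves `n_w` into the longest cell. -/
theorem exists_borel_long (hW : GoodWeyl D) (h : Weyl.RootGood C M R) {w0 : M.Group}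
    (h0 : ∀ i, ¬ GoesUp hW h i w0) (w : M.Group) :
    ∃ c ∈ D.borelSubgroup F, nW hW h F w * c * nW hW h F w0 ∈ cell hW h F w0 := by
  induction hn : M.toCoxeterSystem.length w using Nat.strong_induction_on generalizing w with
  | _ n ih =>
    by_cases hw1 : w = 1
    · subst hw1
      refine ⟨1, one_mem _, ?_⟩
      have h1 : nW hW h F 1 ∈ D.borelSubgroup F := by
        have := nW_mem_cell (F := F) hW h 1
        rwa [cell_one hW h] at this
      rw [mul_one]
      exact borel_mul_mem_cell hW h h1 (nW_mem_cell hW h w0)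
    obtain ⟨i, hi⟩ := M.toCoxeterSystem.exists_leftDescent_of_ne_one hw1
    rw [CoxeterSystem.isLeftDescent_iff, CoxeterMatrix.toCoxeterSystem_simple] at hi
    set v := M.simple i * w with hv
    have hsv : M.simple i * v = w := by
      rw [hv, ← mul_assoc, show M.simple i * M.simple i = 1 from
        M.toCoxeterSystem.simple_mul_simple_self i, one_mul]
    have hup : GoesUp hW h i v := by
      rw [goesUp_iff, hsv]; omega
    obtain ⟨c, hc, b, hb, b4, hb4, e⟩ := ih _ (by omega) v rfl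
    obtain ⟨k, hk, ek⟩ := exists_nR_mul_nW (F := F) hW h i v
    rw [hsv] at ek
    set a := pRoot hW i
    -- some shift of the first factor has a nonzero component
    have key : ∃ s t : F, ∃ b' : GL D.Idx F, t ≠ 0 ∧ X hW.good a s * b = b' * X hW.good a t ∧
        nR hW i * b' * (nR hW i)⁻¹ ∈ D.borelSubgroup F := by
      by_contra hcon
      have hall : ∀ s : F, nR hW i * (X hW.good a s * b) * (nR hW i)⁻¹ ∈ D.borelSubgroup F := by
        intro s
        obtain ⟨t, b', e', h1, -⟩ := exists_borel_split hW i (mul_mem (X_pRoot_mem_borel hW i s) hb)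
        rcases eq_or_ne t 0 with rfl | ht
        · rw [e', X_zero, mul_one]; exact h1
        · exact absurd ⟨s, t, b', ht, e', h1⟩ hcon
      have h1 := mul_mem (hall 1) (inv_mem (hall 0))
      rw [X_zero, one_mul, show ∀ n x b : GL D.Idx F, n * (x * b) * n⁻¹ * (n * b * n⁻¹)⁻¹ = n * x * n⁻¹ from
        fun n x b => by group, nR_conj, hW.wPerm_pRoot, mul_one] at h1
      have h2 : X hW.good a.rev ((eta D i a : ℤ) : F) ∈ D.borelSubgroup F ⊓ D.negUnipotent F :=
        ⟨h1, X_mem_neg hW.good (pRoot_rev_neg hW i) _⟩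
      rw [borel_inf_neg hW, Subgroup.mem_bot, ← X_zero hW.good (R := F) a.rev] at h2
      have h3 := X_injective hW.good a.rev h2
      rw [hW.eta_pRoot] at h3
      simp at h3
    obtain ⟨s, t, b', ht, e', h1⟩ := key
    refine ⟨k * (((nW hW h F v)⁻¹ * X hW.good a s * nW hW h F v) * c),
      mul_mem (diag_le_borel D hk) (mul_mem (X_mul_nW_mem hW h hup s) hc), ?_⟩
    have e2 : nW hW h F w * (k * (((nW hW h F v)⁻¹ * X hW.good a s * nW hW h F v) * c)) * nW hW h F w0 =
        nR hW i * (X hW.good a s * b) * nW hW h F w0 * b4 := by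
      calc nW hW h F w * (k * (((nW hW h F v)⁻¹ * X hW.good a s * nW hW h F v) * c)) * nW hW h F w0
          = (nW hW h F w * k) * (nW hW h F v)⁻¹ * X hW.good a s * (nW hW h F v * c * nW hW h F w0) := by
            group
        _ = (nR hW i * nW hW h F v) * (nW hW h F v)⁻¹ * X hW.good a s * (b * nW hW h F w0 * b4) := by
            rw [← ek, e]
        _ = _ := by group
    rw [e2, e']
    exact cell_mul_borel_mem hW h (nR_mul_nW_down hW h (h0 i) h1 ht) hb4

/-- Every element is conjugate to an element of `U⁻ B`. -/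
theorem exists_conj_bigCell (hW : GoodWeyl D) (h : Weyl.RootGood C M R) {g : GL D.Idx F}
    (hg : g ∈ D.group F) :
    ∃ x ∈ D.group F, ∃ v ∈ D.negUnipotent F, ∃ b ∈ D.borelSubgroup F, x * g * x⁻¹ = v * b := by
  obtain ⟨w0, hw0⟩ := h.exists_longest
  have hneg : ∀ r : Root D, half D ≤ (r : ℕ) → ((h.rootPerm w0 r : Root D) : ℕ) < half D := by
    intro r hr
    have h1 := hw0 r ((posIdx_iff hW.good h r).2 hr)
    rw [posIdx_iff hW.good h] at h1
    omega
  have h0 : ∀ i, ¬ GoesUp hW h i w0 := by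
    intro i hi
    have h1 := hneg _ hi
    rw [← Equiv.Perm.mul_apply, ← map_mul, mul_inv_cancel, map_one, Equiv.Perm.one_apply] at h1
    have := pRoot_pos hW i
    omega
  obtain ⟨w, b1, hb1, b2, hb2, eg⟩ := exists_mem_cell hW h hg
  obtain ⟨c, hc, b3, hb3, b4, hb4, e⟩ := exists_borel_long (F := F) hW h h0 w
  set n0 := nW hW h F w0
  set β := c⁻¹ * (b2 * b1) * b3
  have hβ : β ∈ D.borelSubgroup F := mul_mem (mul_mem (inv_mem hc) (mul_mem hb2 hb1)) hb3
  have ey : β⁻¹ * c⁻¹ * b2 * g * (β⁻¹ * c⁻¹ * b2)⁻¹ = n0 * b4 * n0⁻¹ * β := by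
    calc β⁻¹ * c⁻¹ * b2 * g * (β⁻¹ * c⁻¹ * b2)⁻¹
        = β⁻¹ * (c⁻¹ * (b2 * b1)) * (nW hW h F w * c * n0) * n0⁻¹ * β := by rw [← eg]; group
      _ = β⁻¹ * (c⁻¹ * (b2 * b1)) * (b3 * n0 * b4) * n0⁻¹ * β := by rw [e]
      _ = _ := by simp only [β]; group
  obtain ⟨u, hu, k, hk, eb⟩ := (mem_borel_iff hW).1 hb4
  refine ⟨β⁻¹ * c⁻¹ * b2, ?_, n0 * u * n0⁻¹, ?_, n0 * k * n0⁻¹ * β, ?_, ?_⟩
  · exact borel_le_group hW (mul_mem (mul_mem (inv_mem hβ) (inv_mem hc)) hb2)
  · rw [negUnipotent_eq_rootGen hW.good]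
    rw [posUnipotent_eq_rootGen hW.good] at hu
    exact (monBy_nW hW h w0).conj_rootGen (fun r hr => hneg r hr) hu
  · refine mul_mem (diag_le_borel D ?_) hβ
    exact ((Subgroup.mem_normalizer_iff.1 (monomial_le_normalizer hW (nW_mem hW h w0))) k).1 hk
  · rw [ey, ← eb]; group

end CfsgLib.G2Square
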