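import Cfsg.Agent.G2Square.Levi

/-!
# The centraliser of a companion element in the two unipotent radicals
-/

set_option autoImplicit false

namespace CfsgLib.G2Square

open Cfsg.Lie CfsgLib CfsgLib.Chevalley
open RankOneRel (uMat vMat wMat)
open scoped MatrixGroups

variable {F : Type*} [Field F]

theorem conj_mul {G : Type*} [Group G] (g a b : G) : conj g (a * b) = conj g a * conj g b := by
  simp only [conj]; group

theorem conj_conj {G : Type*} [Group G] (g h a : G) : conj g (conj h a) = conj (g * h) a := by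
  simp only [conj]; group

theorem conj_eq_self {G : Type*} [Group G] {g a : G} : conj g a = a ↔ g * a = a * g :=
  mul_inv_eq_iff_eq_mul

theorem commRhs_mem_rs {r s : ℕ} {L : List ℕ}
    (h : ((chevG2.commTerms r s).all fun c => L.contains c.1) = true) (t u : F) :
    commRhs hW.good r s t u ∈ rs F L := by
  refine Subgroup.list_prod_mem _ fun y hy => ?_
  obtain ⟨p, hp, rfl⟩ := List.mem_map.1 hy
  obtain ⟨c, hc, rfl⟩ := List.mem_map.1 hp
  split
  · rename_i hlt
    exact X_mem_rootGen _ (S := {r : Root chevG2 | (r : ℕ) ∈ L})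
      (List.contains_iff_mem.1 (List.all_eq_true.1 h c hc)) _
  · exact one_mem _

theorem comm_x (r s : Fin 12) (h1 : s ≠ r) (h2 : (s : ℕ) + (r : ℕ) ≠ 11) (t u : F) :
    x s u * x r t = x r t * x s u * commRhs hW.good (r : ℕ) (s : ℕ) t u :=
  X_comm hW.toGoodComm (rt r) (rt s) (fun e => h1 (Fin.ext (congrArg Fin.val e :))) (fun e => h2 (by
    have e' := congrArg Fin.val e
    simp only [Fin.val_rev, rt, show chevG2.nroots = 12 from rfl] at e'
    omega)) t u

theorem commute_x (r s : Fin 12) (h1 : s ≠ r) (h2 : (s : ℕ) + (r : ℕ) ≠ 11)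
    (h : chevG2.commTerms r s = []) (t u : F) : x s u * x r t = x r t * x s u := by
  rw [comm_x r s h1 h2, commRhs, h]
  simp [wordGL]

theorem rs_uGe {L : List ℕ} {m : ℕ}
    (h : (L.all fun r => decide (6 ≤ r) && decide (m ≤ r)) = true)
    {u : GL chevG2.Idx F} (hu : u ∈ rs F L) : u ∈ uGe hW.good F false m :=
  rs_le_uGe h hu

theorem comp_eq (N : Fˣ) (s : F) :
    comp (N : F) s N.ne_zero =
      ((wMat F)⁻¹ : Matrix.SpecialLinearGroup (Fin 2) F) * (dg 1 N * (uMat F s : GL (Fin 2) F)) := by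
  apply GL_eq
  have hw : ((wMat F)⁻¹ : Matrix.SpecialLinearGroup (Fin 2) F).1 = !![0, -1; 1, 0] := by
    rw [Matrix.SpecialLinearGroup.coe_inv, RankOneRel.wMat_val, Matrix.adjugate_fin_two_of]
    simp
  rw [Units.val_mul, Units.val_mul]
  show !![(0 : F), -(N : F); 1, s] = ((wMat F)⁻¹).1 * (!![((1 : Fˣ) : F), 0; 0, (N : F)] * (uMat F s).1)
  rw [hw, RankOneRel.uMat_val]
  ext i j; fin_cases i <;> fin_cases j <;> simp [Matrix.mul_apply, Fin.sum_univ_two]

theorem Phi_comp (N : Fˣ) (s : F) :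
    Phi (comp (N : F) s N.ne_zero) = (n i1)⁻¹ * (tr N N * x 6 s) := by
  rw [comp_eq, map_mul, map_mul, Phi_SL, Phi_SL, map_inv, phi_w, phi_u, Phi_dg]
  simp

/-- The only fixed point in the radical is `1`. -/
theorem cent_pos (N : Fˣ) (s : F) (h1 : 1 - s + (N : F) ≠ 0) (h2 : (N : F) ≠ 1)
    (h3 : 1 - s * N + (N : F) ^ 3 ≠ 0) {u : GL chevG2.Idx F} (hu : u ∈ rs F [7, 8, 9, 10, 11])
    (hc : conj (Phi (comp (N : F) s N.ne_zero)) u = u) : u = 1 := by
  have key : conj (tr N N) (conj (x 6 s) u) = conj (n i1) u := by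
    rw [Phi_comp, ← conj_conj, ← conj_conj] at hc
    generalize conj (tr N N) (conj (x 6 s) u) = y at hc ⊢
    rw [← hc]
    simp only [conj]; group
  obtain ⟨a, w1, hw1, rfl⟩ := exists_split (a := 7) (L := [8, 9, 10, 11]) (by decide) hu
  obtain ⟨b, W, hW', rfl⟩ := exists_split (a := 8) (L := [9, 10, 11]) (by decide) hw1
  -- the action of the unipotent part
  have e6 : ∃ W1 ∈ rs F [9, 10, 11], conj (x 6 s) (x 7 a * (x 8 b * W)) =
      x 7 a * (x 8 (a * s + b) * W1) := by
    have hC : ∃ W0 ∈ rs F [9, 10, 11], commRhs hW.good 7 6 a s = x 8 (a * s) * W0 := by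
      rw [commRhs, show chevG2.commTerms 7 6 = [(8, -1, 1, 1), (9, 1, 2, 1), (10, 1, 3, 1), (11, 1, 3, 2)]
        from rfl, List.map_cons, wordGL, List.map_cons, List.prod_cons, dif_pos (by decide : (8 : ℕ) < chevG2.nroots)]
      refine ⟨_, ?_, congrArg₂ (· * ·) (congrArg (X hW.good _) ?_) rfl⟩
      · refine Subgroup.list_prod_mem _ fun y hy => ?_
        obtain ⟨p, hp, rfl⟩ := List.mem_map.1 hy
        obtain ⟨c, hc', rfl⟩ := List.mem_map.1 hp
        split
        · refine X_mem_rootGen _ (S := {r : Root chevG2 | (r : ℕ) ∈ [9, 10, 11]}) ?_ _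
          simp only [List.mem_cons, List.not_mem_nil, or_false] at hc'
          rcases hc' with rfl | rfl | rfl <;> simp
        · exact one_mem _
      · push_cast; ring
    obtain ⟨W0, hW0, e0⟩ := hC
    have h76 := comm_x (F := F) 7 6 (by decide) (by decide) a s
    rw [show (((7 : Fin 12) : ℕ)) = 7 from rfl, show (((6 : Fin 12) : ℕ)) = 6 from rfl, e0] at h76
    have hb : conj (x 6 s) (x 8 b) = x 8 b := conj_eq_self.2 (commute_x 8 6 (by decide) (by decide) rfl b s)
    have hbas : conj (x 6 s) (x 8 (a * s)) = x 8 (a * s) :=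
      conj_eq_self.2 (commute_x 8 6 (by decide) (by decide) rfl _ s)
    refine ⟨conj (x 8 (-b)) (conj (x 6 s) W0) * conj (x 6 s) W,
      mul_mem (conj_mem_rs (by decide) _ (conj_mem_rs (by decide) _ hW0)) (conj_mem_rs (by decide) _ hW'), ?_⟩
    have ea : conj (x 6 s) (x 7 a) = x 7 a * (x 8 (a * s) * conj (x 6 s) W0) := by
      calc conj (x 6 s) (x 7 a) = x 6 s * x 7 a * (x 6 s)⁻¹ := rfl
        _ = x 7 a * (x 6 s * (x 8 (a * s) * W0) * (x 6 s)⁻¹) := by rw [h76]; group
        _ = x 7 a * conj (x 6 s) (x 8 (a * s) * W0) := rfl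
        _ = _ := by rw [conj_mul, hbas]
    rw [conj_mul, conj_mul, ea, hb, ← x_add, ← x_inv]
    generalize conj (x 6 s) W0 = A
    generalize conj (x 6 s) W = B
    simp only [conj]; group
  obtain ⟨W1, hW1, e6⟩ := e6
  have eL : ∃ W2 ∈ rs F [9, 10, 11], conj (tr N N) (conj (x 6 s) (x 7 a * (x 8 b * W))) =
      x 7 ((N : F) * a) * (x 8 (a * s + b) * W2) := by
    refine ⟨conj (tr N N) W1, diag_conj_rs (tr_mem_diag _ _) hW1, ?_⟩
    rw [e6, conj_mul, conj_mul, tr_conj_x N N (k := 7) (a := 2) (b := -1) rfl rfl,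
      tr_conj_x N N (k := 8) (a := -1) (b := 1) rfl rfl]
    congr 2
    · simp [zpow_ofNat, sq]
    · congr 1; simp
  obtain ⟨W2, hW2, eL⟩ := eL
  have eR : ∃ W3 ∈ rs F [9, 10, 11], conj (n i1) (x 7 a * (x 8 b * W)) =
      x 7 (-b) * (x 8 a * W3) := by
    refine ⟨commRhs hW.good 7 8 (-b) a * conj (n i1) W,
      mul_mem (commRhs_mem_rs (by decide) _ _) (n_conj_rs (by decide) hW'), ?_⟩
    rw [conj_mul, conj_mul, n_conj_x i1 (k := 7) (k' := 8) (z := 1) rfl rfl,
      n_conj_x i1 (k := 8) (k' := 7) (z := -1) rfl rfl, Int.cast_one, one_mul, Int.cast_neg, Int.cast_one,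
      neg_one_mul, ← mul_assoc (x 8 a), comm_x 7 8 (by decide) (by decide)]
    simp only [mul_assoc]
    rfl
  obtain ⟨W3, hW3, eR⟩ := eR
  rw [eL, eR] at key
  have m8 : ∀ (z : F) {Z : GL chevG2.Idx F}, Z ∈ rs F [9, 10, 11] →
      x 8 z * Z ∈ uGe hW.good F false 8 := fun z Z hZ =>
    mul_mem (rs_uGe (L := [8]) (by decide) (x_mem_rs (by simp) z)) (rs_uGe (by decide) hZ)
  obtain ⟨ha, key2⟩ := head_eq (m := 7) (by decide) (by decide) (m8 _ hW2) (m8 _ hW3) key
  obtain ⟨hb, -⟩ := head_eq (m := 8) (by decide) (by decide) (rs_uGe (by decide) hW2) (rs_uGe (by decide) hW3) key2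
  have a0 : a = 0 := by
    have h : (1 - s + (N : F)) * a = 0 := by linear_combination ha - hb
    exact (mul_eq_zero.1 h).resolve_left h1
  have b0 : b = 0 := by linear_combination hb - (s - 1) * a0
  subst a0; subst b0
  clear key key2 e6 eL eR hW1 hW2 hW3 hu hw1 ha hb m8
  simp only [x_zero, one_mul] at hc ⊢
  -- second stage
  have key : conj (tr N N) (conj (x 6 s) W) = conj (n i1) W := by
    rw [Phi_comp, ← conj_conj, ← conj_conj] at hc
    generalize conj (tr N N) (conj (x 6 s) W) = y at hc ⊢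
    rw [← hc]
    simp only [conj]; group
  obtain ⟨c, w2, hw2, rfl⟩ := exists_split (a := 9) (L := [10, 11]) (by decide) hW'
  obtain ⟨d, w3, hw3, rfl⟩ := exists_split (a := 10) (L := [11]) (by decide) hw2
  obtain ⟨e, w4, hw4, rfl⟩ := exists_split (a := 11) (L := []) (by decide) hw3
  rw [rs_nil, Subgroup.mem_bot] at hw4
  subst hw4
  rw [mul_one] at key hc ⊢
  have h106 : conj (x 6 s) (x 10 d) = x 10 d * x 11 (d * s) := by
    have h := comm_x (F := F) 10 6 (by decide) (by decide) d s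
    rw [commRhs, show chevG2.commTerms ((10 : Fin 12) : ℕ) ((6 : Fin 12) : ℕ) = [(11, -1, 1, 1)] from rfl,
      List.map_cons, List.map_nil, wordGL, List.map_cons, List.map_nil, List.prod_cons, List.prod_nil,
      dif_pos (by decide : (11 : ℕ) < chevG2.nroots), mul_one] at h
    have hc11 := commute_x (F := F) 11 6 (by decide) (by decide) rfl
    calc conj (x 6 s) (x 10 d) = x 6 s * x 10 d * (x 6 s)⁻¹ := rfl
      _ = x 10 d * (x 6 s * x 11 (d * s)) * (x 6 s)⁻¹ := by
        rw [h, mul_assoc (x 10 d)]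
        congr 3
        show X hW.good _ _ = X hW.good _ _
        congr 1
        push_cast; ring
      _ = _ := by rw [hc11]; group
  have h96 : conj (x 6 s) (x 9 c) = x 9 c := conj_eq_self.2 (commute_x 9 6 (by decide) (by decide) rfl c s)
  have h116 : conj (x 6 s) (x 11 e) = x 11 e := conj_eq_self.2 (commute_x 11 6 (by decide) (by decide) rfl e s)
  have eL : conj (tr N N) (conj (x 6 s) (x 9 c * (x 10 d * x 11 e))) =
      x 9 ((N : F) * c) * (x 10 ((N : F) ^ 2 * d) * x 11 ((N : F) * (d * s + e))) := by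
    rw [conj_mul (x 6 s), conj_mul (x 6 s), h96, h106, h116, mul_assoc (x 10 d), x_add, conj_mul, conj_mul,
      tr_conj_x N N (k := 9) (a := 1) (b := 0) rfl rfl, tr_conj_x N N (k := 10) (a := 3) (b := -1) rfl rfl,
      tr_conj_x N N (k := 11) (a := 0) (b := 1) rfl rfl]
    congr 2
    · simp
    · congr 1; simp [zpow_ofNat]; left; field_simp
    · simp
  have eR : conj (n i1) (x 9 c * (x 10 d * x 11 e)) = x 9 c * (x 10 (-e) * x 11 d) := by
    rw [conj_mul, conj_mul, n_conj_x i1 (k := 9) (k' := 9) (z := 1) rfl rfl,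
      n_conj_x i1 (k := 10) (k' := 11) (z := 1) rfl rfl, n_conj_x i1 (k := 11) (k' := 10) (z := -1) rfl rfl,
      Int.cast_one, one_mul, one_mul, Int.cast_neg, Int.cast_one, neg_one_mul,
      commute_x 10 11 (by decide) (by decide) rfl]
  rw [eL, eR] at key
  have m10 : ∀ z z' : F, x 10 z * x 11 z' ∈ uGe hW.good F false 10 := fun z z' =>
    rs_uGe (L := [10, 11]) (by decide) (mul_mem (x_mem_rs (by simp) z) (x_mem_rs (by simp) z'))
  have m11 : ∀ z : F, x 11 z ∈ uGe hW.good F false 11 := fun z =>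
    rs_uGe (L := [11]) (by decide) (x_mem_rs (by simp) z)
  obtain ⟨hc9, key2⟩ := head_eq (m := 9) (by decide) (by decide) (m10 _ _) (m10 _ _) key
  obtain ⟨hd, key3⟩ := head_eq (m := 10) (by decide) (by decide) (m11 _) (m11 _) key2
  have he := X_injective hW.good _ key3
  have c0 : c = 0 := by
    have h : ((N : F) - 1) * c = 0 := by linear_combination hc9
    exact (mul_eq_zero.1 h).resolve_left (sub_ne_zero.2 h2)
  have d0 : d = 0 := by
    have h : (1 - s * N + (N : F) ^ 3) * d = 0 := by linear_combination (N : F) * hd - he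
    exact (mul_eq_zero.1 h).resolve_left h3
  have e0 : e = 0 := by linear_combination hd - (N : F) ^ 2 * d0
  subst c0; subst d0; subst e0
  simp [x_zero]

theorem comp_trace (N s : F) (hN : N ≠ 0) :
    (comp N s hN : Matrix (Fin 2) (Fin 2) F).trace = s := by
  show Matrix.trace !![0, -N; 1, s] = s
  simp [trace_two]

theorem comp_det (N s : F) (hN : N ≠ 0) : (comp N s hN : Matrix (Fin 2) (Fin 2) F).det = N := by
  show Matrix.det !![0, -N; 1, s] = N
  simp [Matrix.det_fin_two_of]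

theorem comp_nonScalar (N s : F) (hN : N ≠ 0) :
    NonScalar (comp N s hN : Matrix (Fin 2) (Fin 2) F) :=
  Or.inr (Or.inl (show (1 : F) ≠ 0 from one_ne_zero))

/-- The only fixed point in the opposite radical is `1`. -/
theorem cent_neg (N : Fˣ) (s : F) (h1 : 1 - s + (N : F) ≠ 0) (h2 : (N : F) ≠ 1)
    (h3 : 1 - s * N + (N : F) ^ 3 ≠ 0) {u : GL chevG2.Idx F} (hu : u ∈ rs F [0, 1, 2, 3, 4])
    (hc : conj (Phi (comp (N : F) s N.ne_zero)) u = u) : u = 1 := by
  set X := comp (N : F) s N.ne_zero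
  set Y := dg (dt X)⁻¹ (dt X)⁻¹ * X
  have hn : (N : F) ≠ 0 := N.ne_zero
  have hdt : dt X = N := Units.ext (by simp [dt, X, comp_det])
  set Z := comp ((N⁻¹ : Fˣ) : F) (s / N) (N⁻¹).ne_zero
  have hval : (Y : Matrix (Fin 2) (Fin 2) F) = !![0, -1; (N : F)⁻¹, s * (N : F)⁻¹] := by
    simp only [Y, hdt]
    show !![((N⁻¹ : Fˣ) : F), 0; 0, ((N⁻¹ : Fˣ) : F)] * !![0, -(N : F); 1, s] = _
    ext i j; fin_cases i <;> fin_cases j <;> simp [Matrix.mul_apply, Fin.sum_univ_two, mul_comm]
  have hYZ : IsConj Z Y := by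
    refine isConj_of_eq (comp_nonScalar _ _ _) ?_ ?_ ?_
    · refine Or.inr (Or.inl ?_)
      rw [hval]; simp
    · rw [comp_det, hval, Matrix.det_fin_two_of]; simp
    · rw [comp_trace, hval, trace_two]; simp [div_eq_mul_inv]
  obtain ⟨P, hP⟩ := isConj_iff.1 hYZ
  -- pull back to the positive side
  have hZu : ∀ w ∈ rs F [7, 8, 9, 10, 11], conj (Phi Z) w = w → w = 1 := fun w hw hw' =>
    cent_pos N⁻¹ (s / N) (by
      rw [Units.val_inv_eq_inv_val]
      intro e; apply h1; field_simp at e; linear_combination e)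
      (by rw [Units.val_inv_eq_inv_val]; intro e; exact h2 (inv_eq_one.1 e))
      (by
        rw [Units.val_inv_eq_inv_val]
        intro e; apply h3; field_simp at e; linear_combination e) hw hw'
  set w := conj np u with hwdef
  have hw : w ∈ rs F [7, 8, 9, 10, 11] := np_rs_neg hu
  have hfix : conj (Phi (P⁻¹)) w ∈ rs F [7, 8, 9, 10, 11] := Phi_conj_rs stable_pos _ hw
  have e1 : conj (Phi Y) w = w := by
    have h2 : conj np (Phi X) = Phi Y := np_conj_Phi X
    rw [← h2]
    calc conj (conj np (Phi X)) w = conj np (conj (Phi X) u) := by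
          simp only [conj, hwdef]; group
      _ = _ := by rw [hc]
  have e : conj (Phi Z) (conj (Phi P⁻¹) w) = conj (Phi P⁻¹) w := by
    rw [show Z = P⁻¹ * Y * P by rw [← hP]; group, map_mul, map_mul]
    calc conj (Phi P⁻¹ * Phi Y * Phi P) (conj (Phi P⁻¹) w)
        = conj (Phi P⁻¹) (conj (Phi Y) w) := by simp only [conj, map_inv]; group
      _ = _ := by rw [e1]
  have h0 := hZu _ hfix e
  have : w = 1 := by
    calc w = Phi P * conj (Phi P⁻¹) w * (Phi P)⁻¹ := by simp only [conj, map_inv]; group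
      _ = 1 := by rw [h0, mul_one, mul_inv_cancel]
  simpa [hwdef, conj] using this

end CfsgLib.G2Square
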