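import Cfsg.Agent.G2Square.Mirror
import Cfsg.Agent.Chevalley.Frames

/-!
# Moving every element into the absorbable form
-/

set_option autoImplicit false

namespace CfsgLib.G2Square

open Cfsg.Lie CfsgLib CfsgLib.Chevalley
open RankOneRel (uMat vMat wMat)
open scoped MatrixGroups

variable {F : Type*} [Field F]

/-- Every element is conjugate to a product `v t u`. -/
theorem exists_vtu {g : GL chevG2.Idx F} (hg : g ∈ chevG2.group F) :
    ∃ h ∈ chevG2.group F, ∃ v ∈ rs F [0, 1, 2, 3, 4, 5], ∃ c0 c1 : Fˣ,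
      ∃ u ∈ rs F [6, 7, 8, 9, 10, 11], conj h g = v * tr c0 c1 * u := by
  obtain ⟨C, M, R, hR⟩ := exists_rootGood_of_mem (D := chevG2) (by simp)
  obtain ⟨h, hh, v, hv, b, hb, e⟩ := exists_conj_bigCell hW hR hg
  obtain ⟨u, hu, k, hk, rfl⟩ := (mem_borel_iff hW).1 hb
  obtain ⟨c0, c1, rfl⟩ := exists_tr hk
  refine ⟨h, hh, v, neg_eq (F := F) ▸ hv, c0, c1, conj (tr c0 c1)⁻¹ u,
    diag_conj_rs (inv_mem hk) (pos_eq (F := F) ▸ hu), ?_⟩
  rw [conj, e]; simp only [conj]; group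

theorem tr_inv_x (c0 c1 : Fˣ) {k : Fin 12} {a b : ℤ} (ha : chevG2.cartan 0 k = a)
    (hb : chevG2.cartan 1 k = b) (t : F) :
    x k t * tr c0 c1 = tr c0 c1 * x k ((((c0 ^ a * c1 ^ b)⁻¹ : Fˣ) : F) * t) := by
  have h := tr_conj_x c0 c1 ha hb ((((c0 ^ a * c1 ^ b)⁻¹ : Fˣ) : F) * t)
  rw [Units.mul_inv_cancel_left] at h
  rw [← h, conj]; group

variable [Fintype F] {N : Fˣ} {s : F}

section

variable (hp : Param N s) (hG : ∀ C : GL (Fin 2) F, dt C = 1 → Good (X0 N s) C)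

include hp hG

theorem sq_det_one {v u : GL chevG2.Idx F} (hv : v ∈ rs F [0, 1, 2, 3, 4, 5])
    (hu : u ∈ rs F [6, 7, 8, 9, 10, 11]) (c1 : Fˣ) : Sq (x0 N s) (v * tr 1 c1 * u) := by
  obtain ⟨f, v', hv', rfl⟩ := exists_split' (a := 5) (L := [0, 1, 2, 3, 4]) (by decide)
    (rs_mono (by decide) hv)
  obtain ⟨e, u', hu', rfl⟩ := exists_split (a := 6) (L := [7, 8, 9, 10, 11]) (by decide) hu
  set C : GL (Fin 2) F := (vMat F f : GL (Fin 2) F) * dg (c1 * 1⁻¹) (1 * 1 * c1⁻¹) * (uMat F e : GL (Fin 2) F)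
  have hC : dt C = 1 := by
    have h1 : ∀ g : Matrix.SpecialLinearGroup (Fin 2) F, dt (g : GL (Fin 2) F) = 1 := fun g =>
      Units.ext (by simp [dt])
    simp only [C, dt, map_mul]
    show dt _ * dt _ * dt _ = 1
    rw [h1, h1, dt_dg]
    simp
  have hP : Phi C = x 5 f * tr 1 c1 * x 6 e := by
    simp only [C, map_mul]
    rw [Phi_SL, Phi_SL, phi_u, phi_v, ← tr_eq_Phi]
  rw [show v' * x 5 f * tr 1 c1 * (x 6 e * u') = v' * Phi C * u' by rw [hP]; group]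
  exact sq_of_good hp (hG C hC) hv' hu'

theorem sq_short {v u : GL chevG2.Idx F} (hv : v ∈ rs F [0, 1, 2, 3, 4, 5])
    (hu : u ∈ rs F [6, 8, 9, 10, 11]) (c0 c1 : Fˣ) {b : F} (hb : b ≠ 0) :
    Sq (x0 N s) (v * tr c0 c1 * (x 7 b * u)) := by
  set a : F := (((c0⁻¹ : Fˣ) : F) - 1) / b
  have hm : ((c0⁻¹ : Fˣ) : F) = 1 + a * b := by rw [div_mul_cancel₀ _ hb]; ring
  refine Sq.of_conj (x_mem_group 4 (-a)) ?_
  set m : Fˣ := c0⁻¹
  have e : conj (x 4 (-a)) (v * tr c0 c1 * (x 7 b * u)) =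
      (x 4 (-a) * v * conj (tr c0 c1) (x 4 (a / m))) * tr 1 c1 * (x 7 (b / m) * conj (x 4 (-a)) u) := by
    calc conj (x 4 (-a)) (v * tr c0 c1 * (x 7 b * u))
        = x 4 (-a) * v * tr c0 c1 * (x 7 b * x 4 a) * (x 4 (-a) * u * (x 4 (-a))⁻¹) := by
          rw [conj, x_inv, neg_neg, show x 4 (-a) = (x 4 a)⁻¹ from (x_inv 4 a).symm]; group
      _ = x 4 (-a) * v * conj (tr c0 c1) (x 4 (a / m)) * (tr c0 c1 * tr m 1) * (x 7 (b / m) * conj (x 4 (-a)) u) := by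
          rw [x7_x4 b a m hm]; simp only [conj]; group
      _ = _ := by rw [tr_mul, mul_one, mul_inv_cancel]
  rw [e]
  refine sq_det_one hp hG (mul_mem (mul_mem (x_mem_rs (by decide) _) hv)
    (diag_conj_rs (tr_mem_diag _ _) (x_mem_rs (by decide) _))) ?_ c1
  exact mul_mem (x_mem_rs (by decide) _) (rs_mono (by decide) (conj_mem_rs (a := 4) (L := [6, 8, 9, 10, 11]) (by decide) _ hu))

theorem sq_short' {v u : GL chevG2.Idx F} (hv : v ∈ rs F [0, 1, 2, 3, 5])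
    (hu : u ∈ rs F [6, 7, 8, 9, 10, 11]) (c0 c1 : Fˣ) {a : F} (ha : a ≠ 0) :
    Sq (x0 N s) (v * x 4 a * tr c0 c1 * u) := by
  refine Sq.of_mirror ?_
  have e : conj nw (v * x 4 a * tr c0 c1 * u)⁻¹ =
      conj nw u⁻¹ * tr c0 c1 * (x 7 a * conj nw v⁻¹) := by
    rw [_root_.mul_inv_rev, _root_.mul_inv_rev, _root_.mul_inv_rev, tr_inv, x_inv, conj_mul, conj_mul,
      conj_mul, nw_conj_tr, nw_conj_x4, inv_inv, inv_inv, neg_neg]
    group
  rw [e]
  exact sq_short hp hG (nw_conj_rs (by decide) (inv_mem hu))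
    (nw_conj_rs (L' := [6, 8, 9, 10, 11]) (by decide) (inv_mem hv)) c0 c1 ha

theorem sq_alpha {v u : GL chevG2.Idx F} (hv : v ∈ rs F [0, 1, 2, 3, 4, 5])
    (hu : u ∈ rs F [6, 7, 8, 9, 10, 11]) (c0 c1 : Fˣ) (hw : c0 * c0 ≠ c1) :
    Sq (x0 N s) (v * tr c0 c1 * u) := by
  obtain ⟨b, u', hu', rfl⟩ := exists_split (a := 7) (L := [6, 8, 9, 10, 11]) (by decide)
    (rs_mono (by decide) hu)
  rcases ne_or_eq b 0 with hb | rfl
  · exact sq_short hp hG hv hu' c0 c1 hb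
  rw [x_zero, one_mul]
  obtain ⟨a, v', hv', rfl⟩ := exists_split' (a := 4) (L := [0, 1, 2, 3, 5]) (by decide)
    (rs_mono (by decide) hv)
  rcases ne_or_eq a 0 with ha | rfl
  · exact sq_short' hp hG hv' (rs_mono (by decide) hu') c0 c1 ha
  rw [x_zero, mul_one]
  refine Sq.of_conj (x_mem_group 7 1) ?_
  set w : Fˣ := (c0 ^ (2 : ℤ) * c1 ^ (-1 : ℤ))⁻¹
  have hw' : (w : F) * 1 + -1 ≠ 0 := by
    intro e
    have h1 : w = 1 := Units.ext (by rw [Units.val_one]; linear_combination e)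
    simp only [w, inv_eq_one, zpow_neg, zpow_one, mul_inv_eq_one, zpow_two] at h1
    exact hw h1
  have e : conj (x 7 1) (v' * tr c0 c1 * u') =
      conj (x 7 1) v' * tr c0 c1 * (x 7 ((w : F) * 1 + -1) * conj (x 7 1) u') := by
    have h7 := tr_inv_x c0 c1 (k := 7) (a := 2) (b := -1) rfl rfl (1 : F)
    rw [← x_add]
    calc conj (x 7 1) (v' * tr c0 c1 * u')
        = conj (x 7 1) v' * (x 7 1 * tr c0 c1) * ((x 7 (1 : F))⁻¹ * conj (x 7 1) u') := by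
          simp only [conj]; group
      _ = _ := by rw [h7, x_inv]; simp only [mul_assoc]; rfl
  rw [e]
  exact sq_short hp hG (rs_mono (by decide) (conj_mem_rs (a := 7) (L := [0, 1, 2, 3, 5]) (by decide) _ hv'))
    (conj_mem_rs (by decide) _ hu') c0 c1 hw'

theorem sq_long (hμ : ∃ m : Fˣ, m ≠ 1) {v u : GL chevG2.Idx F} (hv : v ∈ rs F [0, 1, 2, 3, 4, 5])
    (hu : u ∈ rs F [7, 8, 9, 10, 11]) (c0 c1 : Fˣ) (hw : c0 * c0 = c1) {e : F} (he : e ≠ 0) :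
    Sq (x0 N s) (v * tr c0 c1 * (x 6 e * u)) := by
  obtain ⟨m, hm1⟩ := hμ
  set a : F := ((m : F) - 1) / e
  have hm : (m : F) = 1 + a * e := by rw [div_mul_cancel₀ _ he]; ring
  refine Sq.of_conj (x_mem_group 5 (-a)) ?_
  have eq : conj (x 5 (-a)) (v * tr c0 c1 * (x 6 e * u)) =
      (x 5 (-a) * v * conj (tr c0 c1) (x 5 (a / m))) * tr c0 (c1 * m) * (x 6 (e / m) * conj (x 5 (-a)) u) := by
    calc conj (x 5 (-a)) (v * tr c0 c1 * (x 6 e * u))
        = x 5 (-a) * v * tr c0 c1 * (x 6 e * x 5 a) * (x 5 (-a) * u * (x 5 (-a))⁻¹) := by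
          rw [conj, x_inv, neg_neg, show x 5 (-a) = (x 5 a)⁻¹ from (x_inv 5 a).symm]; group
      _ = x 5 (-a) * v * conj (tr c0 c1) (x 5 (a / m)) * (tr c0 c1 * tr 1 m) * (x 6 (e / m) * conj (x 5 (-a)) u) := by
          rw [x6_x5 e a m hm]; simp only [conj]; group
      _ = _ := by rw [tr_mul, mul_one]
  rw [eq]
  refine sq_alpha hp hG (mul_mem (mul_mem (x_mem_rs (by decide) _) hv)
    (diag_conj_rs (tr_mem_diag _ _) (x_mem_rs (by decide) _)))
    (mul_mem (x_mem_rs (by decide) _) (rs_mono (by decide) (conj_mem_rs (a := 5) (L := [7, 8, 9, 10, 11]) (by decide) _ hu)))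
    _ _ ?_
  rw [hw]
  exact fun h => hm1 (mul_eq_left.1 h.symm)

theorem sq_long' (hμ : ∃ m : Fˣ, m ≠ 1) {v u : GL chevG2.Idx F} (hv : v ∈ rs F [0, 1, 2, 3, 4])
    (hu : u ∈ rs F [6, 7, 8, 9, 10, 11]) (c0 c1 : Fˣ) (hw : c0 * c0 = c1) {f : F} (hf : f ≠ 0) :
    Sq (x0 N s) (v * x 5 f * tr c0 c1 * u) := by
  refine Sq.of_mirror ?_
  have e : conj nw (v * x 5 f * tr c0 c1 * u)⁻¹ =
      conj nw u⁻¹ * tr c0 c1 * (x 6 f * conj nw v⁻¹) := by
    rw [_root_.mul_inv_rev, _root_.mul_inv_rev, _root_.mul_inv_rev, tr_inv, x_inv, conj_mul, conj_mul,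
      conj_mul, nw_conj_tr, nw_conj_x5, inv_inv, inv_inv, neg_neg]
    group
  rw [e]
  exact sq_long hp hG hμ (nw_conj_rs (by decide) (inv_mem hu))
    (nw_conj_rs (L' := [7, 8, 9, 10, 11]) (by decide) (inv_mem hv)) c0 c1 hw hf

/-- Everything is covered. -/
theorem sq_all (hμ : ∃ m : Fˣ, m ≠ 1) {g : GL chevG2.Idx F} (hg : g ∈ chevG2.group F) :
    Sq (x0 N s) g := by
  obtain ⟨h, hh, v, hv, c0, c1, u, hu, e⟩ := exists_vtu hg
  refine Sq.of_conj hh ?_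
  rw [e]
  clear e hh h hg g
  by_cases h0 : c0 = 1
  · subst h0; exact sq_det_one hp hG hv hu c1
  by_cases hw : c0 * c0 = c1
  swap
  · exact sq_alpha hp hG hv hu c0 c1 hw
  obtain ⟨f, v', hv', rfl⟩ := exists_split' (a := 5) (L := [0, 1, 2, 3, 4]) (by decide)
    (rs_mono (by decide) hv)
  obtain ⟨e, u', hu', rfl⟩ := exists_split (a := 6) (L := [7, 8, 9, 10, 11]) (by decide) hu
  rcases ne_or_eq e 0 with he | rfl
  · exact sq_long hp hG hμ hv hu' c0 c1 hw he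
  rw [x_zero, one_mul]
  rcases ne_or_eq f 0 with hf | rfl
  · exact sq_long' hp hG hμ hv' (rs_mono (by decide) hu') c0 c1 hw hf
  rw [x_zero, mul_one]
  refine Sq.of_conj (x_mem_group 6 1) ?_
  set w : Fˣ := (c0 ^ (-3 : ℤ) * c1 ^ (2 : ℤ))⁻¹
  have hw' : (w : F) * 1 + -1 ≠ 0 := by
    intro e
    have h1 : w = 1 := Units.ext (by rw [Units.val_one]; linear_combination e)
    have h2 : c0 ^ (-3 : ℤ) * c1 ^ (2 : ℤ) = c0 := by
      rw [← hw]; refine Units.ext ?_; simp [zpow_ofNat]; field_simp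
    simp only [w, inv_eq_one, h2] at h1
    exact h0 h1
  have e : conj (x 6 1) (v' * tr c0 c1 * u') =
      conj (x 6 1) v' * tr c0 c1 * (x 6 ((w : F) * 1 + -1) * conj (x 6 1) u') := by
    have h6 := tr_inv_x c0 c1 (k := 6) (a := -3) (b := 2) rfl rfl (1 : F)
    rw [← x_add]
    calc conj (x 6 1) (v' * tr c0 c1 * u')
        = conj (x 6 1) v' * (x 6 1 * tr c0 c1) * ((x 6 (1 : F))⁻¹ * conj (x 6 1) u') := by
          simp only [conj]; group
      _ = _ := by rw [h6, x_inv]; simp only [mul_assoc]; rfl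
  rw [e]
  exact sq_long hp hG hμ (rs_mono (by decide) (conj_mem_rs (a := 6) (L := [0, 1, 2, 3, 4]) (by decide) _ hv'))
    (conj_mem_rs (by decide) _ hu') c0 c1 hw hw'

end

end CfsgLib.G2Square
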