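import Cfsg.Agent.G2Square.Descent

/-!
# The field with four elements
-/

set_option autoImplicit false

namespace CfsgLib.G2Square

open Cfsg.Lie CfsgLib CfsgLib.Chevalley
open RankOneRel (uMat vMat wMat)
open scoped MatrixGroups

variable {F : Type*} [Field F]

theorem conj_x_eq (a r : Fin 12) (h1 : a ≠ r) (h2 : (r : ℕ) + (a : ℕ) ≠ 11) (v t : F) :
    conj (x a v) (x r t) = x r t * commRhs hW.good (a : ℕ) (r : ℕ) (-v) t := by
  have e := comm_x a r (Ne.symm h1) h2 (-v) t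
  calc conj (x a v) (x r t) = x a v * (x r t * x a (-v)) := by rw [conj, x_inv, mul_assoc]
    _ = (x a v * x a (-v)) * (x r t * commRhs hW.good (a : ℕ) (r : ℕ) (-v) t) := by rw [e]; group
    _ = _ := by rw [x_add, add_neg_cancel, x_zero, one_mul]

theorem conj_x_of_nil (a r : Fin 12) (h1 : a ≠ r) (h2 : (r : ℕ) + (a : ℕ) ≠ 11)
    (h : chevG2.commTerms (a : ℕ) (r : ℕ) = []) (v t : F) : conj (x a v) (x r t) = x r t := by
  rw [conj_x_eq a r h1 h2, commRhs, h]
  simp [wordGL]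

theorem commRhs_one {a r : ℕ} {k : Fin 12} {z : ℤ} {i j : ℕ}
    (h : chevG2.commTerms a r = [((k : ℕ), z, i, j)]) (v t : F) :
    commRhs hW.good a r v t = x k ((z : F) * (-v) ^ i * t ^ j) := by
  rw [commRhs, h, List.map_cons, List.map_nil, wordGL, List.map_cons, List.map_nil, List.prod_cons,
    List.prod_nil, dif_pos (show (k : ℕ) < chevG2.nroots from k.2), mul_one]
  rfl

/-- The `x5`-coordinate modulo the opposite radical. -/
def P5 (g : GL chevG2.Idx F) (p : F) : Prop := ∃ w ∈ rs F [0, 1, 2, 3, 4], g = w * x 5 p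

theorem P5.mul {g g' : GL chevG2.Idx F} {p q : F} (h : P5 g p) (h' : P5 g' q) :
    P5 (g * g') (p + q) := by
  obtain ⟨w, hw, rfl⟩ := h
  obtain ⟨w', hw', rfl⟩ := h'
  refine ⟨w * conj (x 5 p) w', mul_mem hw (conj_mem_rs (by decide) p hw'), ?_⟩
  rw [← x_add]; simp only [conj]; group

theorem P5.of_rs {g : GL chevG2.Idx F} (h : g ∈ rs F [0, 1, 2, 3, 4]) : P5 g 0 :=
  ⟨g, h, by rw [x_zero, mul_one]⟩

theorem P5.x5 (p : F) : P5 (x 5 p) p := ⟨1, one_mem _, (one_mul _).symm⟩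

theorem p5_x3 (σ c : F) : P5 (conj (x 7 σ) (x 3 c)) (3 * σ * c) := by
  rw [conj_x_eq 7 3 (by decide) (by decide),
    commRhs_one (k := 5) (z := 3) (i := 1) (j := 1) rfl]
  have h := (P5.of_rs (x_mem_rs (F := F) (k := 3) (L := [0, 1, 2, 3, 4]) (by decide) c)).mul
    (P5.x5 (((3 : ℤ) : F) * (- -σ) ^ 1 * c ^ 1))
  rw [show 3 * σ * c = 0 + ((3 : ℤ) : F) * (- -σ) ^ 1 * c ^ 1 by push_cast; ring]
  exact h

theorem p5_x2 (σ d : F) : P5 (conj (x 7 σ) (x 2 d)) (3 * σ ^ 2 * d) := by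
  rw [conj_x_eq 7 2 (by decide) (by decide), commRhs,
    show chevG2.commTerms ((7 : Fin 12) : ℕ) ((2 : Fin 12) : ℕ) = [(3, 2, 1, 1), (5, 3, 2, 1), (0, -3, 1, 2)] from rfl]
  simp only [List.map_cons, List.map_nil, wordGL, List.prod_cons, List.prod_nil, mul_one,
    dif_pos (show (3 : ℕ) < chevG2.nroots by decide), dif_pos (show (5 : ℕ) < chevG2.nroots by decide),
    dif_pos (show (0 : ℕ) < chevG2.nroots by decide)]
  rw [show 3 * σ ^ 2 * d = 0 + (0 + (((3 : ℤ) : F) * (- -σ) ^ 2 * d ^ 1 + 0)) by push_cast; ring]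
  exact (P5.of_rs (x_mem_rs (F := F) (k := 2) (by decide) d)).mul
    ((P5.of_rs (X_mem_rootGen _ (show (3 : ℕ) ∈ [0, 1, 2, 3, 4] by decide) _)).mul
      ((P5.x5 _).mul (P5.of_rs (X_mem_rootGen _ (show (0 : ℕ) ∈ [0, 1, 2, 3, 4] by decide) _))))

theorem p5_x1 (σ e : F) : P5 (conj (x 7 σ) (x 1 e)) (-(σ ^ 3 * e)) := by
  rw [conj_x_eq 7 1 (by decide) (by decide), commRhs,
    show chevG2.commTerms ((7 : Fin 12) : ℕ) ((1 : Fin 12) : ℕ) = [(2, -1, 1, 1), (3, -1, 2, 1), (5, -1, 3, 1), (0, -1, 3, 2)] from rfl]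
  simp only [List.map_cons, List.map_nil, wordGL, List.prod_cons, List.prod_nil, mul_one,
    dif_pos (show (3 : ℕ) < chevG2.nroots by decide), dif_pos (show (5 : ℕ) < chevG2.nroots by decide),
    dif_pos (show (0 : ℕ) < chevG2.nroots by decide), dif_pos (show (2 : ℕ) < chevG2.nroots by decide)]
  rw [show -(σ ^ 3 * e) = 0 + (0 + (0 + (((-1 : ℤ) : F) * (- -σ) ^ 3 * e ^ 1 + 0))) by push_cast; ring]
  exact (P5.of_rs (x_mem_rs (F := F) (k := 1) (by decide) e)).mul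
    ((P5.of_rs (X_mem_rootGen _ (show (2 : ℕ) ∈ [0, 1, 2, 3, 4] by decide) _)).mul
      ((P5.of_rs (X_mem_rootGen _ (show (3 : ℕ) ∈ [0, 1, 2, 3, 4] by decide) _)).mul
        ((P5.x5 _).mul (P5.of_rs (X_mem_rootGen _ (show (0 : ℕ) ∈ [0, 1, 2, 3, 4] by decide) _)))))

/-- The scalar `z` times `u(e)`, embedded. -/
def T (z : Fˣ) : GL chevG2.Idx F := tr (z * z) (z * z * z)

theorem Phi_scal (z : Fˣ) : Phi (dg z z) = T z := Phi_dg z z

theorem Phi_scal_u (z : Fˣ) (e : F) :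
    Phi (dg z z * (uMat F e : GL (Fin 2) F)) = T z * x 6 e := by
  rw [map_mul, Phi_scal, Phi_SL, phi_u]

variable [Fintype F] {N : Fˣ} {s : F}

/-- The hypotheses in the case of four elements. -/
structure Four (N : Fˣ) (s : F) : Prop where
  two : (2 : F) = 0
  cube : ∀ z : Fˣ, z ^ 3 = 1
  ne_one : (N : F) ≠ 1
  par : Param N s
  good : ∀ C : GL (Fin 2) F,
    (¬ NonScalar (C : Matrix (Fin 2) (Fin 2) F) ∨ (C : Matrix (Fin 2) (Fin 2) F).trace ≠ 0) →
      Good (X0 N s) C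

variable (hf : Four N s)

include hf

omit [Fintype F] in
theorem T_conj_x7 (z : Fˣ) (σ : F) : x 7 σ * T z = T z * x 7 (((z⁻¹ : Fˣ) : F) * σ) := by
  rw [T, tr_inv_x (z * z) (z * z * z) (k := 7) (a := 2) (b := -1) rfl rfl]
  congr 3
  rw [show (z * z) ^ (2 : ℤ) * (z * z * z) ^ (-1 : ℤ) = z from Units.ext (by simp [zpow_ofNat]; field_simp)]

omit [Fintype F] in
theorem T_x6 (z : Fˣ) (e : F) : x 6 e * T z = T z * x 6 e := by
  rw [T, tr_inv_x (z * z) (z * z * z) (k := 6) (a := -3) (b := 2) rfl rfl]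
  congr 2
  rw [show (z * z) ^ (-3 : ℤ) * (z * z * z) ^ (2 : ℤ) = 1 from Units.ext (by simp [zpow_ofNat]; field_simp)]
  simp

/-- One short move produces a nonzero trace. -/
theorem sq_poly {σ a c d k e : F} (hσ : a * σ ≠ 1)
    (hp : 3 * σ * c + 3 * σ ^ 2 * d - σ ^ 3 * e ≠ 0) (z : Fˣ) {u : GL chevG2.Idx F}
    (hu : u ∈ rs F [7, 8, 9, 10, 11]) :
    Sq (x0 N s) (x 4 a * (x 3 c * (x 2 d * (x 0 k * x 1 e))) * (T z * x 6 1) * u) := by
  have hne : 1 - a * σ ≠ 0 := sub_ne_zero.2 (Ne.symm hσ)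
  set m : Fˣ := (Units.mk0 _ hne)⁻¹
  set r : F := σ / (1 - a * σ)
  have hm : (m : F) = 1 + a * r := by
    simp only [m, r, Units.val_inv_eq_inv_val, Units.val_mk0]; field_simp; ring
  have hr : r / (m : F) = σ := by
    simp only [m, r, Units.val_inv_eq_inv_val, Units.val_mk0]; field_simp
    exact mul_div_cancel_right₀ σ (by rwa [mul_comm])
  refine Sq.of_conj (x_mem_group 7 r) ?_
  set w := x 3 c * (x 2 d * (x 0 k * x 1 e))
  have hw : P5 (conj (x 7 σ) w) (3 * σ * c + 3 * σ ^ 2 * d - σ ^ 3 * e) := by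
    simp only [w, conj_mul]
    rw [show 3 * σ * c + 3 * σ ^ 2 * d - σ ^ 3 * e = 3 * σ * c + (3 * σ ^ 2 * d + (0 + -(σ ^ 3 * e))) by ring,
      conj_x_of_nil 7 0 (by decide) (by decide) rfl]
    exact (p5_x3 σ c).mul ((p5_x2 σ d).mul ((P5.of_rs (x_mem_rs (by decide) k)).mul (p5_x1 σ e)))
  obtain ⟨w', hw', ew⟩ := hw
  set p := 3 * σ * c + 3 * σ ^ 2 * d - σ ^ 3 * e
  set C : GL (Fin 2) F := dg (m⁻¹) (m * m) * (vMat F p : GL (Fin 2) F) * (dg z z * (uMat F 1 : GL (Fin 2) F))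
  have hCP : Phi C = tr m 1 * x 5 p * (T z * x 6 1) := by
    simp only [C]
    rw [map_mul, map_mul, Phi_scal_u, Phi_SL, phi_v, Phi_dg]
    congr 3 <;> refine Units.ext ?_ <;> simp
  have hC : (C : Matrix (Fin 2) (Fin 2) F).trace ≠ 0 := by
    have hm3 : (m : F) ^ 3 = 1 := by rw [← Units.val_pow_eq_pow_val, hf.cube, Units.val_one]
    have hmi : ((m⁻¹ : Fˣ) : F) = (m : F) ^ 2 := by
      rw [Units.val_inv_eq_inv_val]; field_simp; linear_combination -hm3
    have e : (C : Matrix (Fin 2) (Fin 2) F).trace = (z : F) * (m : F) ^ 2 * p := by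
      simp only [C, Units.val_mul]
      show Matrix.trace (!![((m⁻¹ : Fˣ) : F), 0; 0, ((m * m : Fˣ) : F)] * (vMat F p).1 *
        (!![(z : F), 0; 0, (z : F)] * (uMat F 1).1)) = _
      rw [trace_two, hmi, RankOneRel.uMat_val, RankOneRel.vMat_val]
      simp [Matrix.mul_apply, Fin.sum_univ_two]
      linear_combination ((z : F) * (m : F) ^ 2) * hf.two
    rw [e]
    exact mul_ne_zero (mul_ne_zero z.ne_zero (pow_ne_zero 2 m.ne_zero)) hp
  have e : conj (x 7 r) (x 4 a * w * (T z * x 6 1) * u) =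
      (x 4 (a / m) * conj (tr m 1) w') * Phi C *
        (conj (x 6 (-1)) (x 7 (((z⁻¹ : Fˣ) : F) * σ)) * u * x 7 (-r)) := by
    calc conj (x 7 r) (x 4 a * w * (T z * x 6 1) * u)
        = (x 7 r * x 4 a) * w * (T z * x 6 1) * u * x 7 (-r) := by rw [conj, x_inv]; group
      _ = x 4 (a / m) * tr m 1 * conj (x 7 σ) w * (x 7 σ * T z) * x 6 1 * u * x 7 (-r) := by
          rw [x7_x4 r a m hm, hr]; simp only [conj]; group
      _ = _ := by
          rw [T_conj_x7 hf, ew, hCP, show x 6 (-1 : F) = (x 6 1)⁻¹ from (x_inv 6 1).symm]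
          simp only [conj]; group
  rw [e]
  refine sq_of_good hf.par (hf.good C (Or.inr hC))
    (mul_mem (x_mem_rs (by decide) _) (diag_conj_rs (tr_mem_diag _ _) hw'))
    (mul_mem (mul_mem (conj_mem_rs (by decide) _ (x_mem_rs (by decide) _)) hu) (x_mem_rs (by decide) _))

/-- The three nonzero elements sum to zero. -/
theorem one_add_N : 1 + (N : F) + (N : F) ^ 2 = 0 := by
  have h3 : (N : F) ^ 3 = 1 := by rw [← Units.val_pow_eq_pow_val, hf.cube, Units.val_one]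
  have h : ((N : F) - 1) * (1 + (N : F) + (N : F) ^ 2) = 0 := by linear_combination h3
  exact (mul_eq_zero.1 h).resolve_left (sub_ne_zero.2 hf.ne_one)

/-- A point where the cubic does not vanish. -/
theorem exists_sigma {a c d e : F} (ha : c ≠ 0 → a = 0) (h : c ≠ 0 ∨ d ≠ 0 ∨ e ≠ 0) :
    ∃ σ : F, a * σ ≠ 1 ∧ 3 * σ * c + 3 * σ ^ 2 * d - σ ^ 3 * e ≠ 0 := by
  have hN := N.ne_zero
  have hN1 := hf.ne_one
  have hsum := one_add_N hf
  have h2 := hf.two
  have h3 : (3 : F) ≠ 0 := fun e3 => one_ne_zero (α := F) (by linear_combination e3 - h2)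
  by_contra hcon
  push Not at hcon
  have q : ∀ σ : F, σ ≠ 0 → a * σ ≠ 1 → c + σ * d + σ ^ 2 * e = 0 := by
    intro σ hσ hσa
    have h' := hcon σ hσa
    apply mul_left_cancel₀ hσ
    rw [mul_zero]
    linear_combination h' - (σ * c + σ ^ 2 * d - σ ^ 3 * e) * h2
  have hc : c = 0 := by
    by_contra hc
    have a0 := ha hc
    have e1 := q 1 one_ne_zero (by simp [a0])
    have e2 := q N hN (by simp [a0])
    have e3 := q ((N : F) ^ 2) (pow_ne_zero 2 hN) (by simp [a0])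
    have : 3 * c = 0 := by
      linear_combination e1 + e2 + e3 - (d + (1 - (N : F) + (N : F) ^ 2) * e) * hsum
    exact hc ((mul_eq_zero.1 this).resolve_left h3)
  subst hc
  have q' : ∀ σ : F, σ ≠ 0 → a * σ ≠ 1 → d + σ * e = 0 := fun σ hσ hσa =>
    mul_left_cancel₀ hσ (by rw [mul_zero]; linear_combination q σ hσ hσa)
  have two : ∃ σ τ : F, σ ≠ τ ∧ σ ≠ 0 ∧ τ ≠ 0 ∧ a * σ ≠ 1 ∧ a * τ ≠ 1 := by
    have n12 : (N : F) ≠ (N : F) ^ 2 := fun e => hN1 (mul_left_cancel₀ hN (by linear_combination -e))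
    have n2 : (1 : F) ≠ (N : F) ^ 2 := fun e => hN1 (by
      have : ((N : F) - 1) * ((N : F) - 1) = 0 := by linear_combination -e + (1 - (N : F)) * h2
      exact sub_eq_zero.1 (mul_self_eq_zero.1 this))
    by_cases e1 : a * 1 = 1
    · rw [mul_one] at e1
      subst e1
      exact ⟨N, (N : F) ^ 2, n12, hN, pow_ne_zero 2 hN, by rwa [one_mul], by rw [one_mul]; exact n2.symm⟩
    · by_cases e2 : a * (N : F) = 1
      · refine ⟨1, (N : F) ^ 2, n2, one_ne_zero, pow_ne_zero 2 hN, e1, fun e3 => n12 ?_⟩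
        have ha0 : a ≠ 0 := fun z => by simp [z] at e2
        exact mul_left_cancel₀ ha0 (e2.trans e3.symm)
      · exact ⟨1, N, Ne.symm hN1, one_ne_zero, hN, e1, e2⟩
  obtain ⟨σ, τ, hne, hσ, hτ, hσa, hτa⟩ := two
  have e0 : e = 0 := by
    have : (σ - τ) * e = 0 := by linear_combination q' σ hσ hσa - q' τ hτ hτa
    exact (mul_eq_zero.1 this).resolve_left (sub_ne_zero.2 hne)
  have d0 : d = 0 := by linear_combination q' σ hσ hσa - σ * e0
  exact h.elim (fun x => x rfl) (fun x => x.elim (fun y => y d0) (fun y => y e0))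

theorem x6_move (z : Fˣ) (r : F) {v u : GL chevG2.Idx F} :
    conj (x 6 r) (v * (T z * x 6 1) * u) = conj (x 6 r) v * (T z * x 6 1) * conj (x 6 r) u := by
  have h : x 6 r * (T z * x 6 1) = T z * x 6 1 * x 6 r := by
    rw [← mul_assoc, T_x6 hf, mul_assoc, mul_assoc, x_add, x_add, add_comm]
  calc conj (x 6 r) (v * (T z * x 6 1) * u)
      = x 6 r * v * (x 6 r)⁻¹ * (x 6 r * (T z * x 6 1)) * u * (x 6 r)⁻¹ := by simp only [conj]; group
    _ = _ := by rw [h]; simp only [conj]; group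

/-- Either covered, or the lower part is a short root element. -/
theorem reduce_neg (z : Fˣ) {v : GL chevG2.Idx F} (hv : v ∈ rs F [0, 1, 2, 3, 4])
    {u : GL chevG2.Idx F} (hu : u ∈ rs F [7, 8, 9, 10, 11]) :
    Sq (x0 N s) (v * (T z * x 6 1) * u) ∨ ∃ a, v = x 4 a := by
  obtain ⟨c, v1, hv1, rfl⟩ := exists_split (a := 3) (L := [4, 0, 1, 2]) (by decide) (rs_mono (by decide) hv)
  obtain ⟨a, v2, hv2, rfl⟩ := exists_split (a := 4) (L := [0, 1, 2]) (by decide) hv1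
  -- normal form of a lower part with given first coordinates
  have norm : ∀ {R : GL chevG2.Idx F}, R ∈ rs F [0, 1, 2] →
      ∃ d k e : F, R = x 2 d * (x 0 k * x 1 e) := by
    intro R hR
    obtain ⟨d, R1, hR1, rfl⟩ := exists_split (a := 2) (L := [0, 1]) (by decide) (rs_mono (by decide) hR)
    obtain ⟨k, R2, hR2, rfl⟩ := exists_split (a := 0) (L := [1]) (by decide) hR1
    obtain ⟨e, R3, hR3, rfl⟩ := exists_split (a := 1) (L := []) (by decide) hR2
    rw [rs_nil, Subgroup.mem_bot] at hR3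
    exact ⟨d, k, e, by rw [hR3, mul_one]⟩
  rcases ne_or_eq c 0 with hc | rfl
  · left
    set r := a / c
    refine Sq.of_conj (x_mem_group 6 r) ?_
    rw [x6_move hf]
    have h63 : ∃ R ∈ rs F [0, 1, 2], conj (x 6 r) (x 3 c) = x 3 c * (x 4 (-a) * R) := by
      rw [conj_x_eq 6 3 (by decide) (by decide), commRhs,
        show chevG2.commTerms ((6 : Fin 12) : ℕ) ((3 : Fin 12) : ℕ) = [(4, -1, 1, 1), (2, -1, 1, 2), (0, -1, 1, 3), (1, 2, 2, 3)] from rfl,
        List.map_cons, wordGL, List.map_cons, List.prod_cons, dif_pos (show (4 : ℕ) < chevG2.nroots by decide)]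
      refine ⟨_, ?_, congrArg (x 3 c * ·) (congrArg₂ (· * ·) (congrArg (X hW.good _) ?_) rfl)⟩
      · refine Subgroup.list_prod_mem _ fun y hy => ?_
        obtain ⟨p, hp, rfl⟩ := List.mem_map.1 hy
        obtain ⟨q, hq, rfl⟩ := List.mem_map.1 hp
        split
        · refine X_mem_rootGen _ (S := {r : Root chevG2 | (r : ℕ) ∈ [0, 1, 2]}) ?_ _
          simp only [List.mem_cons, List.not_mem_nil, or_false] at hq
          rcases hq with rfl | rfl | rfl <;> simp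
        · exact one_mem _
      · push_cast
        simp only [r]
        field_simp
    obtain ⟨R, hR, e63⟩ := h63
    obtain ⟨d, k, e, hde⟩ := norm (R := conj (x 4 (-a)) R * conj (x 6 r) v2)
      (mul_mem (conj_mem_rs (by decide) _ hR) (conj_mem_rs (by decide) _ hv2))
    have ev : conj (x 6 r) (x 3 c * (x 4 a * v2)) = x 4 0 * (x 3 c * (x 2 d * (x 0 k * x 1 e))) := by
      rw [conj_mul, conj_mul, e63, conj_x_of_nil 6 4 (by decide) (by decide) rfl, ← hde, x_zero, one_mul,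
        show (x 4 (-a) : GL chevG2.Idx F) = (x 4 a)⁻¹ from (x_inv 4 a).symm]
      generalize conj (x 6 r) v2 = B
      simp only [conj]; group
    rw [ev]
    obtain ⟨σ, h1, h2⟩ := exists_sigma hf (a := (0 : F)) (c := c) (d := d) (e := e) (fun _ => rfl) (Or.inl hc)
    exact sq_poly hf h1 h2 z (conj_mem_rs (by decide) _ hu)
  rw [x_zero, one_mul]
  obtain ⟨d, k, e, rfl⟩ := norm hv2
  by_cases hz : d = 0 ∧ k = 0 ∧ e = 0
  · obtain ⟨rfl, rfl, rfl⟩ := hz
    exact Or.inr ⟨a, by simp [x_zero]⟩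
  left
  have fin : ∀ e' : F, (d ≠ 0 ∨ e' ≠ 0) → ∀ {u' : GL chevG2.Idx F}, u' ∈ rs F [7, 8, 9, 10, 11] →
      Sq (x0 N s) (x 4 a * (x 2 d * (x 0 k * x 1 e')) * (T z * x 6 1) * u') := by
    intro e' h u' hu'
    obtain ⟨σ, h1, h2⟩ := exists_sigma hf (a := a) (c := (0 : F)) (d := d) (e := e')
      (fun h0 => absurd rfl h0) (Or.inr h)
    have := sq_poly hf (k := k) h1 h2 z hu'
    rwa [x_zero, one_mul] at this
  by_cases hde : d = 0 ∧ e = 0
  · obtain ⟨rfl, rfl⟩ := hde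
    have hk : k ≠ 0 := fun h => hz ⟨rfl, h, rfl⟩
    refine Sq.of_conj (x_mem_group 6 1) ?_
    rw [x6_move hf]
    have ev : conj (x 6 1) (x 4 a * (x 2 0 * (x 0 k * x 1 0))) = x 4 a * (x 2 0 * (x 0 k * x 1 (-k))) := by
      rw [x_zero, x_zero, one_mul, mul_one, one_mul, conj_mul, conj_x_of_nil 6 4 (by decide) (by decide) rfl,
        conj_x_eq 6 0 (by decide) (by decide), commRhs_one (k := 1) (z := -1) (i := 1) (j := 1) rfl]
      congr 3
      push_cast; ring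
    rw [ev]
    exact fin _ (Or.inr (neg_ne_zero.2 hk)) (conj_mem_rs (by decide) _ hu)
  · exact fin e (by by_contra hh; push Not at hh; exact hde hh) hu

omit [Fintype F] in
theorem np_T_inv (z : Fˣ) :
    conj np (T z * x 6 1)⁻¹ = T z * x 6 1 := by
  rw [← Phi_scal_u, ← map_inv Phi, np_conj_Phi]
  congr 1
  set U : GL (Fin 2) F := (uMat F 1 : GL (Fin 2) F)
  have hU : U * U = 1 := by
    apply GL_eq
    rw [Units.val_mul, Units.val_one]
    show (uMat F 1).1 * (uMat F 1).1 = 1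
    rw [RankOneRel.uMat_val, Matrix.one_fin_two]
    have h2 := hf.two
    ext i j; fin_cases i <;> fin_cases j <;> simp [Matrix.mul_apply, Fin.sum_univ_two]
    linear_combination h2
  have hcomm : U * dg z⁻¹ z⁻¹ = dg z⁻¹ z⁻¹ * U := by
    apply GL_eq
    rw [Units.val_mul, Units.val_mul]
    show (uMat F 1).1 * !![((z⁻¹ : Fˣ) : F), 0; 0, ((z⁻¹ : Fˣ) : F)] = !![((z⁻¹ : Fˣ) : F), 0; 0, ((z⁻¹ : Fˣ) : F)] * (uMat F 1).1
    rw [RankOneRel.uMat_val]
    ext i j; fin_cases i <;> fin_cases j <;> simp [Matrix.mul_apply, Fin.sum_univ_two]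
  have hinv : (dg z z * U)⁻¹ = dg z⁻¹ z⁻¹ * U := by
    rw [_root_.mul_inv_rev, inv_eq_of_mul_eq_one_right hU, ← hcomm]
    congr 1
    refine inv_eq_of_mul_eq_one_right ?_
    rw [dg_mul, mul_inv_cancel]
    apply GL_eq; simp [dg, Matrix.one_fin_two]
  have hd : dt (dg z⁻¹ z⁻¹ * U) = z⁻¹ * z⁻¹ := by
    rw [show dt (dg z⁻¹ z⁻¹ * U) = dt (dg z⁻¹ z⁻¹) * dt U from map_mul _ _ _, dt_dg,
      show dt U = 1 from Units.ext (by simp [dt, U]), mul_one]
  rw [hinv, hd, ← mul_assoc, dg_mul]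
  congr 2 <;> refine Units.ext ?_ <;> simp <;> field_simp

omit [Fintype F] in
theorem np_x4 (a : F) : conj np (x 4 a) = x 8 a := by
  rw [np_conj, n_conj_x i0 (k := 4) (k' := 7) (z := -1) rfl rfl,
    n_conj_x i1 (k := 7) (k' := 8) (z := 1) rfl rfl, n_conj_x i0 (k := 8) (k' := 9) (z := 1) rfl rfl,
    n_conj_x i1 (k := 9) (k' := 9) (z := 1) rfl rfl, n_conj_x i0 (k := 9) (k' := 8) (z := -1) rfl rfl]
  congr 1
  simp

theorem sq_short_pair (z : Fˣ) (a : F) {b : F} (hb : b ≠ 0) :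
    Sq (x0 N s) (x 4 a * (T z * x 6 1) * x 8 b) := by
  set r := 1 / b
  refine Sq.of_conj (x_mem_group 4 r) ?_
  have e8 : conj (x 4 r) (x 8 b) = x 8 b * x 6 1 := by
    rw [conj_x_eq 4 8 (by decide) (by decide), commRhs_one (k := 6) (z := -3) (i := 1) (j := 1) rfl]
    congr 2
    simp only [r]
    push_cast
    field_simp
    linear_combination -2 * hf.two
  have h64 : conj (x 4 r) (x 6 1) = x 6 (1 : F) := conj_x_of_nil 4 6 (by decide) (by decide) rfl r 1
  have h86 := commute_x (F := F) 8 6 (by decide) (by decide) rfl b 1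
  have e : conj (x 4 r) (x 4 a * (T z * x 6 1) * x 8 b) =
      (x 4 r * x 4 a * conj (T z) (x 4 r)⁻¹) * T z * x 8 b := by
    calc conj (x 4 r) (x 4 a * (T z * x 6 1) * x 8 b)
        = x 4 r * x 4 a * conj (T z) (x 4 r)⁻¹ * T z * conj (x 4 r) (x 6 1) * conj (x 4 r) (x 8 b) := by
          simp only [conj]; group
      _ = x 4 r * x 4 a * conj (T z) (x 4 r)⁻¹ * T z * (x 6 1 * (x 8 b * x 6 1)) := by
          rw [h64, e8]; group
      _ = _ := by
          rw [← mul_assoc (x 6 1), h86, mul_assoc (x 8 b), x_add 6, show (1 : F) + 1 = 0 by linear_combination hf.two,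
            x_zero, mul_one]
  rw [e, ← Phi_scal z]
  refine sq_of_good hf.par (hf.good _ (Or.inl ?_))
    (mul_mem (mul_mem (x_mem_rs (by decide) _) (x_mem_rs (by decide) _))
      (Phi_conj_rs stable_neg _ (inv_mem (x_mem_rs (by decide) _)))) (x_mem_rs (by decide) _)
  show ¬ NonScalar !![(z : F), 0; 0, (z : F)]
  simp [NonScalar]

/-- The case of trace zero. -/
theorem sq_unip (z : Fˣ) {v u : GL chevG2.Idx F} (hv : v ∈ rs F [0, 1, 2, 3, 4])
    (hu : u ∈ rs F [7, 8, 9, 10, 11]) : Sq (x0 N s) (v * (T z * x 6 1) * u) := by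
  rcases reduce_neg hf z hv hu with h | ⟨a, rfl⟩
  · exact h
  -- `g` is covered if its mirror image is
  have mir : ∀ {v' u' : GL chevG2.Idx F}, Sq (x0 N s) (conj np u'⁻¹ * (T z * x 6 1) * conj np v'⁻¹) →
      Sq (x0 N s) (v' * (T z * x 6 1) * u') := by
    intro v' u' h
    have e : conj np (v' * (T z * x 6 1) * u')⁻¹ = conj np u'⁻¹ * (T z * x 6 1) * conj np v'⁻¹ := by
      rw [_root_.mul_inv_rev, _root_.mul_inv_rev, conj_mul, conj_mul, np_T_inv hf z]
      simp only [mul_assoc]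
    rw [← e] at h
    have := (h.of_conj np_mem_group).inv
    rwa [inv_inv] at this
  refine mir ?_
  rw [x_inv 4 a, np_x4 hf]
  have hu' : conj np u⁻¹ ∈ rs F [0, 1, 2, 3, 4] := np_rs_pos (inv_mem hu)
  rcases reduce_neg hf z hu' (x_mem_rs (k := 8) (by decide) _) with h | ⟨b, hb⟩
  · exact h
  rw [hb]
  rcases ne_or_eq a 0 with ha | rfl
  · exact sq_short_pair hf z b (neg_ne_zero.2 ha)
  rcases ne_or_eq b 0 with hb0 | rfl
  · refine mir ?_
    rw [x_inv, x_inv, neg_neg, ← np_x4 hf, x_zero, np_x4 hf]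
    simpa [conj, x_zero, np_x4 hf] using sq_short_pair hf z 0 (neg_ne_zero.2 hb0)
  rw [neg_zero, x_zero, x_zero, one_mul, mul_one]
  refine Sq.of_conj (n_mem_group i0) ?_
  rw [conj_mul, T, n0_conj_tr, n_conj_x i0 (k := 6) (k' := 10) (z := 1) rfl rfl, tr_eq_Phi]
  set p : Fˣ := z * z * z * (z * z * z * (z * z)⁻¹)⁻¹
  have hC : (z * z * z) * (z * z * z * (z * z)⁻¹)⁻¹ =
      (z * z * z * (z * z)⁻¹) * (z * z * z * (z * z)⁻¹) * (z * z * z)⁻¹ := by
    have h3 : (z : F) ^ 3 = 1 := by rw [← Units.val_pow_eq_pow_val, hf.cube, Units.val_one]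
    refine Units.ext ?_
    simp
    field_simp
    linear_combination h3
  rw [← hC]
  refine (sq_of_good hf.par (hf.good _ (Or.inl ?_)) (one_mem _)
    (x_mem_rs (k := 10) (by decide) _) : Sq (x0 N s) (1 * Phi (dg p p) * x 10 _)) |> fun h => by
      rwa [one_mul] at h
  show ¬ NonScalar !![(p : F), 0; 0, (p : F)]
  simp [NonScalar]

omit [Fintype F] in
theorem exists_sqrt (d : Fˣ) : ∃ z : Fˣ, d = z * z := by
  refine ⟨d * d, ?_⟩
  have h := hf.cube d
  calc d = d * d ^ 3 := by rw [h, mul_one]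
    _ = _ := by rw [pow_succ, pow_two]; simp only [mul_assoc]

/-- Everything is covered. -/
theorem sq_all_four {g : GL chevG2.Idx F} (hg : g ∈ chevG2.group F) : Sq (x0 N s) g := by
  obtain ⟨h, hh, v, hv, c0, c1, u, hu, e⟩ := exists_vtu hg
  refine Sq.of_conj hh ?_
  rw [e]
  clear e hh h hg g
  obtain ⟨f, v', hv', rfl⟩ := exists_split' (a := 5) (L := [0, 1, 2, 3, 4]) (by decide)
    (rs_mono (by decide) hv)
  obtain ⟨e, u', hu', rfl⟩ := exists_split (a := 6) (L := [7, 8, 9, 10, 11]) (by decide) hu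
  set C : GL (Fin 2) F :=
    (vMat F f : GL (Fin 2) F) * dg (c1 * c0⁻¹) (c0 * c0 * c1⁻¹) * (uMat F e : GL (Fin 2) F)
  have hP : Phi C = x 5 f * tr c0 c1 * x 6 e := by
    simp only [C, map_mul]
    rw [Phi_SL, Phi_SL, phi_u, phi_v, ← tr_eq_Phi]
  rw [show v' * x 5 f * tr c0 c1 * (x 6 e * u') = v' * Phi C * u' by rw [hP]; group]
  by_cases hC : ¬ NonScalar (C : Matrix (Fin 2) (Fin 2) F) ∨ (C : Matrix (Fin 2) (Fin 2) F).trace ≠ 0
  · exact sq_of_good hf.par (hf.good C hC) hv' hu'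
  push Not at hC
  obtain ⟨z, hz⟩ := exists_sqrt hf (dt C)
  have hval : ((dg z z * (uMat F 1 : GL (Fin 2) F) : GL (Fin 2) F) : Matrix (Fin 2) (Fin 2) F) =
      !![(z : F), z; 0, z] := by
    rw [Units.val_mul]
    show !![(z : F), 0; 0, (z : F)] * (uMat F 1).1 = _
    rw [RankOneRel.uMat_val]
    ext i j; fin_cases i <;> fin_cases j <;> simp [Matrix.mul_apply, Fin.sum_univ_two]
  have hconj : IsConj C (dg z z * (uMat F 1 : GL (Fin 2) F)) := by
    refine isConj_of_eq hC.1 ?_ ?_ ?_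
    · rw [hval]; exact Or.inl (by simp)
    · rw [hval, Matrix.det_fin_two_of, show (C : Matrix (Fin 2) (Fin 2) F).det = (dt C : F) from rfl, hz]
      simp
    · rw [hC.2, hval, trace_two]
      simp only [Matrix.of_apply, Matrix.cons_val', Matrix.cons_val_zero, Matrix.cons_val_one,
        Matrix.empty_val', Matrix.cons_val_fin_one]
      linear_combination -(z : F) * hf.two
  obtain ⟨P, hP'⟩ := isConj_iff.1 hconj
  refine Sq.of_conj (Phi_mem_group P) ?_
  rw [conj_mul, conj_mul, show conj (Phi P) (Phi C) = T z * x 6 1 by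
    rw [← Phi_scal_u, ← hP']; simp only [conj, map_mul, map_inv]]
  exact sq_unip hf z (Phi_conj_rs stable_neg _ hv') (Phi_conj_rs stable_pos _ hu')

end CfsgLib.G2Square
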