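import Mathlib

/-!
# Products of two prescribed conjugacy classes of GL(2, q)

A class of non-scalar elements is determined by determinant and trace; a non-scalar element is a
product of two elements with prescribed traces and determinants as soon as a plane conic has a point.
-/

set_option autoImplicit false

namespace CfsgLib.G2Square

open Matrix
open scoped MatrixGroups

variable {F : Type*} [Field F]

/-- Not a scalar matrix. -/
def NonScalar (A : Matrix (Fin 2) (Fin 2) F) : Prop := A 0 1 ≠ 0 ∨ A 1 0 ≠ 0 ∨ A 0 0 ≠ A 1 1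

theorem eq_scalar_of_not_nonScalar {A : Matrix (Fin 2) (Fin 2) F} (h : ¬ NonScalar A) :
    A = !![A 0 0, 0; 0, A 0 0] := by
  simp only [NonScalar, not_or, not_not] at h
  ext i j; fin_cases i <;> fin_cases j <;> simp [h.1, h.2.1, ← h.2.2]

theorem nonScalar_iff (A : Matrix (Fin 2) (Fin 2) F) :
    NonScalar A ↔ ¬ ∃ z : F, A = !![z, 0; 0, z] := by
  refine ⟨?_, fun h => by_contra fun hn => h ⟨_, eq_scalar_of_not_nonScalar hn⟩⟩
  rintro h ⟨z, rfl⟩
  simp [NonScalar] at h

theorem GL_eq {A B : GL (Fin 2) F} (h : (A : Matrix (Fin 2) (Fin 2) F) = B) : A = B := Units.ext h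

theorem trace_two (A : Matrix (Fin 2) (Fin 2) F) : A.trace = A 0 0 + A 1 1 := Matrix.trace_fin_two A

/-- A non-scalar element is conjugate to the companion matrix of its characteristic polynomial. -/
theorem exists_cyclic (A : Matrix (Fin 2) (Fin 2) F) (h : NonScalar A) :
    ∃ P : Matrix (Fin 2) (Fin 2) F, P.det ≠ 0 ∧ A * P = P * !![0, -A.det; 1, A.trace] := by
  have key : ∀ u v : F, v * (A 0 0 * u + A 0 1 * v) - u * (A 1 0 * u + A 1 1 * v) ≠ 0 →
      ∃ P : Matrix (Fin 2) (Fin 2) F, P.det ≠ 0 ∧ A * P = P * !![0, -A.det; 1, A.trace] := by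
    intro u v huv
    refine ⟨!![u, A 0 0 * u + A 0 1 * v; v, A 1 0 * u + A 1 1 * v], ?_, ?_⟩
    · rw [Matrix.det_fin_two_of]
      intro e
      exact huv (by linear_combination (-1 : F) * e)
    · ext i j
      fin_cases i <;> fin_cases j <;>
        simp [Matrix.mul_apply, Fin.sum_univ_two, Matrix.det_fin_two, trace_two] <;> ring
  by_cases h10 : A 1 0 = 0
  · by_cases h01 : A 0 1 = 0
    · refine key 1 1 ?_
      have hd : A 0 0 ≠ A 1 1 := (h.resolve_left (fun e => e h01)).resolve_left (fun e => e h10)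
      intro e; apply hd; linear_combination e - h01 + h10
    · refine key 0 1 ?_
      intro e; apply h01; linear_combination e
  · refine key 1 0 ?_
    intro e; apply h10; linear_combination -e

/-- Non-scalar elements with equal trace and determinant are conjugate. -/
theorem isConj_of_eq {A B : GL (Fin 2) F} (hA : NonScalar (A : Matrix (Fin 2) (Fin 2) F))
    (hB : NonScalar (B : Matrix (Fin 2) (Fin 2) F))
    (hd : (A : Matrix (Fin 2) (Fin 2) F).det = (B : Matrix (Fin 2) (Fin 2) F).det)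
    (ht : (A : Matrix (Fin 2) (Fin 2) F).trace = (B : Matrix (Fin 2) (Fin 2) F).trace) :
    IsConj A B := by
  obtain ⟨P, hP, eP⟩ := exists_cyclic _ hA
  obtain ⟨Q, hQ, eQ⟩ := exists_cyclic _ hB
  rw [hd, ht] at eP
  obtain ⟨p, hp⟩ : IsUnit P := (Matrix.isUnit_iff_isUnit_det P).2 (Ne.isUnit hP)
  obtain ⟨q, hq⟩ : IsUnit Q := (Matrix.isUnit_iff_isUnit_det Q).2 (Ne.isUnit hQ)
  subst hp; subst hq
  set c : Matrix (Fin 2) (Fin 2) F :=
    !![0, -(B : Matrix (Fin 2) (Fin 2) F).det; 1, (B : Matrix (Fin 2) (Fin 2) F).trace]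
  refine isConj_iff.2 ⟨q * p⁻¹, GL_eq ?_⟩
  simp only [_root_.mul_inv_rev, inv_inv, Units.val_mul]
  calc (q : Matrix (Fin 2) (Fin 2) F) * ((p⁻¹ : GL (Fin 2) F) : Matrix (Fin 2) (Fin 2) F) * A *
        ((p : Matrix (Fin 2) (Fin 2) F) * ((q⁻¹ : GL (Fin 2) F) : Matrix (Fin 2) (Fin 2) F))
      = (q : Matrix (Fin 2) (Fin 2) F) * (((p⁻¹ : GL (Fin 2) F) : Matrix (Fin 2) (Fin 2) F) *
          ((A : Matrix (Fin 2) (Fin 2) F) * p)) * ((q⁻¹ : GL (Fin 2) F) : Matrix (Fin 2) (Fin 2) F) := by
        simp only [Matrix.mul_assoc]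
    _ = (q : Matrix (Fin 2) (Fin 2) F) * c * ((q⁻¹ : GL (Fin 2) F) : Matrix (Fin 2) (Fin 2) F) := by
        rw [eP, Units.inv_mul_cancel_left]
    _ = B := by rw [← eQ, Units.mul_inv_cancel_right]

/-- `s` and `N` do not come from a scalar matrix. -/
def NotDouble (N s : F) : Prop := ∀ r : F, r + r = s → r * r ≠ N

theorem nonScalar_of_notDouble {A : Matrix (Fin 2) (Fin 2) F} (h : NotDouble A.det A.trace) :
    NonScalar A := by
  refine (nonScalar_iff A).2 ?_
  rintro ⟨z, rfl⟩
  exact h z (by simp [trace_two]) (by simp [Matrix.det_fin_two_of])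

/-- The conic whose points give the factorisations. -/
def HasPoint (δ τ s r k : F) : Prop :=
  ∃ a b : F, δ * a ^ 2 + b ^ 2 - τ * a * b - s * δ * a + r * b + k = 0

theorem exists_factor {N1 s1 N2 s2 : F} {x1 x2 C : GL (Fin 2) F}
    (hd1 : (x1 : Matrix (Fin 2) (Fin 2) F).det = N1) (ht1 : (x1 : Matrix (Fin 2) (Fin 2) F).trace = s1)
    (hd2 : (x2 : Matrix (Fin 2) (Fin 2) F).det = N2) (ht2 : (x2 : Matrix (Fin 2) (Fin 2) F).trace = s2)
    (h1 : NotDouble N1 s1) (h2 : NotDouble N2 s2) (hC : NonScalar (C : Matrix (Fin 2) (Fin 2) F))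
    (hdC : (C : Matrix (Fin 2) (Fin 2) F).det = N1 * N2)
    (hpt : HasPoint (N1 * N2) (C : Matrix (Fin 2) (Fin 2) F).trace s1 (N1 * s2) (N1 * (N1 * N2))) :
    ∃ A B : GL (Fin 2) F, IsConj x1 A ∧ IsConj x2 B ∧ A * B = C := by
  obtain ⟨P, hP, eP⟩ := exists_cyclic _ hC
  rw [hdC] at eP
  set τ := (C : Matrix (Fin 2) (Fin 2) F).trace
  obtain ⟨a, b, hab⟩ := hpt
  have hN1 : N1 ≠ 0 := by rw [← hd1]; exact (Matrix.GeneralLinearGroup.det x1).ne_zero
  have hN2 : N2 ≠ 0 := by rw [← hd2]; exact (Matrix.GeneralLinearGroup.det x2).ne_zero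
  set c : F := (N1 * s2 + b - a * τ) / (N1 * N2) with hc
  have hc' : c * (N1 * N2) = N1 * s2 + b - a * τ := div_mul_cancel₀ _ (mul_ne_zero hN1 hN2)
  set A0 : Matrix (Fin 2) (Fin 2) F := !![a, b; c, s1 - a] with hA0
  have hdA : A0.det = N1 := by
    rw [hA0, Matrix.det_fin_two_of]
    apply mul_right_cancel₀ (mul_ne_zero hN1 hN2)
    linear_combination -hab - b * hc'
  obtain ⟨A, hA⟩ : IsUnit A0 := (Matrix.isUnit_iff_isUnit_det A0).2 (Ne.isUnit (hdA ▸ hN1))
  obtain ⟨p, hp⟩ : IsUnit P := (Matrix.isUnit_iff_isUnit_det P).2 (Ne.isUnit hP)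
  have hAval : (A : Matrix (Fin 2) (Fin 2) F) = A0 := hA
  have hadj : N1 • ((A⁻¹ : GL (Fin 2) F) : Matrix (Fin 2) (Fin 2) F) = !![s1 - a, -b; -c, a] := by
    have e : A0 * !![s1 - a, -b; -c, a] = N1 • (1 : Matrix (Fin 2) (Fin 2) F) := by
      rw [← hdA, hA0, Matrix.det_fin_two_of]
      ext i j; fin_cases i <;> fin_cases j <;> simp [Matrix.mul_apply, Fin.sum_univ_two] <;> ring
    rw [← hAval] at e
    calc N1 • ((A⁻¹ : GL (Fin 2) F) : Matrix (Fin 2) (Fin 2) F)
        = ((A⁻¹ : GL (Fin 2) F) : Matrix (Fin 2) (Fin 2) F) * (N1 • 1) := by rw [mul_smul_comm, mul_one]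
      _ = _ := by rw [← e, Units.inv_mul_cancel_left]
  have eC : ((p⁻¹ * C * p : GL (Fin 2) F) : Matrix (Fin 2) (Fin 2) F) = !![0, -(N1 * N2); 1, τ] := by
    simp only [Units.val_mul, Matrix.mul_assoc, hp]
    rw [eP, ← hp, Units.inv_mul_cancel_left]
  set B0 := A⁻¹ * (p⁻¹ * C * p) with hB0
  have htB : (B0 : Matrix (Fin 2) (Fin 2) F).trace = s2 := by
    apply mul_left_cancel₀ hN1
    rw [← smul_eq_mul, ← Matrix.trace_smul, hB0, Units.val_mul, eC, ← smul_mul_assoc, hadj, trace_two]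
    simp [Matrix.mul_apply, Fin.sum_univ_two]
    linear_combination hc'
  have hdB : (B0 : Matrix (Fin 2) (Fin 2) F).det = N2 := by
    have e := congrArg Matrix.det (congrArg Units.val (mul_inv_cancel_left A (p⁻¹ * C * p)))
    rw [Units.val_mul, Matrix.det_mul, hAval, hdA, eC, Matrix.det_fin_two_of] at e
    apply mul_left_cancel₀ hN1
    rw [e]
    ring
  have htA : (A : Matrix (Fin 2) (Fin 2) F).trace = s1 := by rw [hAval, hA0, trace_two]; simp
  have hdA' : (A : Matrix (Fin 2) (Fin 2) F).det = N1 := by rw [hAval, hdA]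
  have c1 : IsConj x1 A := isConj_of_eq (nonScalar_of_notDouble (by rw [hd1, ht1]; exact h1))
    (nonScalar_of_notDouble (by rw [hdA', htA]; exact h1)) (hd1.trans hdA'.symm) (ht1.trans htA.symm)
  have c2 : IsConj x2 B0 := isConj_of_eq (nonScalar_of_notDouble (by rw [hd2, ht2]; exact h2))
    (nonScalar_of_notDouble (by rw [hdB, htB]; exact h2)) (hd2.trans hdB.symm) (ht2.trans htB.symm)
  exact ⟨p * A * p⁻¹, p * B0 * p⁻¹, c1.trans (isConj_iff.2 ⟨p, rfl⟩), c2.trans (isConj_iff.2 ⟨p, rfl⟩),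
    by rw [hB0]; group⟩

section points

variable [Fintype F]

theorem hasPoint_of_disc {δ τ : F} (s r k : F) (hdisc : τ ^ 2 ≠ 4 * δ) :
    HasPoint δ τ s r k := by
  classical
  by_cases h2 : (2 : F) = 0
  · have : CharP F 2 := CharP.ringChar_of_prime_eq_zero Nat.prime_two (by exact_mod_cast h2) ▸ ringChar.charP F
    have hτ : τ ≠ 0 := by
      intro e; apply hdisc
      rw [e, show (4 : F) = 2 * 2 by norm_num, h2]; ring
    set α := r / τ with hα
    set β := -(s * δ) / τ with hβ
    have hα' : α * τ = r := div_mul_cancel₀ _ hτ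
    have hβ' : β * τ = -(s * δ) := div_mul_cancel₀ _ hτ
    obtain ⟨m, hm⟩ := FiniteField.isSquare_of_char_two (CharP.ringChar_of_prime_eq_zero Nat.prime_two (by exact_mod_cast h2))
      (-(δ * α ^ 2 + β ^ 2 - τ * α * β - s * δ * α + r * β + k))
    refine ⟨α, β + m, ?_⟩
    linear_combination (-1 : F) * hm - m * hα' + (β * m) * h2
  · have hodd : Fintype.card F % 2 = 1 := FiniteField.odd_card_of_char_ne_two fun hc => h2 (by
      have : CharP F 2 := hc ▸ ringChar.charP F
      exact CharTwo.two_eq_zero)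
    have h4 : (4 : F) ≠ 0 := by rw [show (4 : F) = 2 * 2 by norm_num]; exact mul_ne_zero h2 h2
    have ha : δ - τ ^ 2 / 4 ≠ 0 := by
      intro e; apply hdisc
      rw [sub_eq_zero, eq_div_iff h4] at e
      linear_combination -e
    obtain ⟨a, b, hab⟩ := FiniteField.exists_root_sum_quadratic (R := F)
      (f := Polynomial.C (δ - τ ^ 2 / 4) * Polynomial.X ^ 2 +
        Polynomial.C (-(s * δ) + r * τ / 2) * Polynomial.X + Polynomial.C k)
      (g := Polynomial.C 1 * Polynomial.X ^ 2 + Polynomial.C r * Polynomial.X + Polynomial.C 0)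
      (Polynomial.degree_quadratic ha) (Polynomial.degree_quadratic one_ne_zero) hodd
    refine ⟨a, b + τ * a / 2, ?_⟩
    simp only [Polynomial.eval_add, Polynomial.eval_mul, Polynomial.eval_C, Polynomial.eval_pow, Polynomial.eval_X] at hab
    rw [← hab]
    field_simp
    ring

omit [Fintype F] in
/-- The degenerate conic. -/
theorem hasPoint_double {z : F} (hz : z ≠ 0) (s r k : F)
    (h : r ≠ s * z ∨ ∃ m : F, m ^ 2 + r * m + k = 0) : HasPoint (z * z) (z + z) s r k := by
  by_cases hr : r = s * z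
  · obtain ⟨m, hm⟩ := h.resolve_left (fun e => e hr)
    exact ⟨0, m, by linear_combination hm⟩
  · have hd : z * (r - s * z) ≠ 0 := mul_ne_zero hz (sub_ne_zero.2 hr)
    refine ⟨-k / (z * (r - s * z)), z * (-k / (z * (r - s * z))), ?_⟩
    have e : -k / (z * (r - s * z)) * (z * (r - s * z)) = -k := div_mul_cancel₀ _ hd
    linear_combination e

end points

section params

variable [Fintype F]

theorem exists_odd_param (h2 : (2 : F) ≠ 0) (h3 : 3 ≤ Fintype.card F) :
    ∃ s : F, s ≠ 0 ∧ ∀ r : F, r * r - s * r + (-1) ≠ 0 := by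
  classical
  by_contra hcon
  push Not at hcon
  set S := (Finset.univ : Finset F).erase 0
  set f : F → F := fun r => r - r⁻¹
  have hsub : S ⊆ S.image f := by
    intro s hs
    obtain ⟨r, hr⟩ := hcon s (Finset.ne_of_mem_erase hs)
    have hr0 : r ≠ 0 := fun e => by simp [e] at hr
    refine Finset.mem_image.2 ⟨r, Finset.mem_erase.2 ⟨hr0, Finset.mem_univ _⟩, ?_⟩
    apply mul_right_cancel₀ hr0
    simp only [f, sub_mul, inv_mul_cancel₀ hr0]
    linear_combination hr
  have hinj : Set.InjOn f S := by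
    refine Finset.card_image_iff.1 (le_antisymm Finset.card_image_le ?_)
    exact Finset.card_le_card hsub
  have hS : 1 < S.card := by
    rw [Finset.card_erase_of_mem (Finset.mem_univ _), Finset.card_univ]; omega
  have hfix : ∀ r ∈ S, -r⁻¹ = r := by
    intro r hr
    have hr0 : r ≠ 0 := Finset.ne_of_mem_erase hr
    refine hinj (Finset.mem_coe.2 (Finset.mem_erase.2 ⟨by simpa using hr0, Finset.mem_univ _⟩)) (Finset.mem_coe.2 hr) ?_
    simp only [f, inv_neg, inv_inv]; ring
  have h1 := hfix 1 (Finset.mem_erase.2 ⟨one_ne_zero, Finset.mem_univ _⟩)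
  rw [inv_one] at h1
  exact h2 (by linear_combination -h1)

theorem exists_irred {N : F} (hN : N ≠ 0) : ∃ s : F, ∀ r : F, r * r - s * r + N ≠ 0 := by
  classical
  by_contra hcon
  push Not at hcon
  have hsub : (Finset.univ : Finset F) ⊆ ((Finset.univ : Finset F).erase 0).image fun r => r + N / r := by
    intro s _
    obtain ⟨r, hr⟩ := hcon s
    have hr0 : r ≠ 0 := fun e => by simp [e, hN] at hr
    refine Finset.mem_image.2 ⟨r, Finset.mem_erase.2 ⟨hr0, Finset.mem_univ _⟩, ?_⟩
    apply mul_right_cancel₀ hr0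
    rw [add_mul, div_mul_cancel₀ _ hr0]
    linear_combination hr
  have h := (Finset.card_le_card hsub).trans Finset.card_image_le
  rw [Finset.card_erase_of_mem (Finset.mem_univ _), Finset.card_univ] at h
  have := Fintype.card_pos (α := F)
  omega

omit [Fintype F] in
/-- The companion matrix. -/
def comp (N s : F) (hN : N ≠ 0) : GL (Fin 2) F :=
  Matrix.GeneralLinearGroup.mkOfDetNeZero !![0, -N; 1, s] (by simpa [Matrix.det_fin_two_of] using hN)

/-- An element with irreducible characteristic polynomial has order prime to `p`. -/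
theorem not_dvd_order_comp (p : ℕ) [Fact p.Prime] [CharP F p] {N s : F} (hN : N ≠ 0)
    (hirr : ∀ r : F, r * r - s * r + N ≠ 0) : ¬ p ∣ orderOf (comp N s hN) := by
  intro hd
  obtain ⟨m, hm⟩ := hd
  set X : Matrix (Fin 2) (Fin 2) F := Units.val (comp N s hN)
  have hX : X = !![0, -N; 1, s] := rfl
  have hlin : ∀ k : ℕ, ∃ a b : F, X ^ k = !![a, -(N * b); b, a + s * b] := by
    intro k
    induction k with
    | zero => exact ⟨1, 0, by ext i j; fin_cases i <;> fin_cases j <;> simp⟩
    | succ k ih =>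
      obtain ⟨a, b, e⟩ := ih
      refine ⟨-(N * b), a + s * b, ?_⟩
      rw [pow_succ, e, hX]
      ext i j; fin_cases i <;> fin_cases j <;> simp [Matrix.mul_apply, Fin.sum_univ_two] <;> ring
  obtain ⟨a, b, e⟩ := hlin m
  have hp : (X ^ m - 1) ^ p = 0 := by
    rw [sub_pow_char_of_commute p (Commute.one_right (X ^ m)), one_pow, ← pow_mul, mul_comm, ← hm,
      ← Units.val_pow_eq_pow_val, pow_orderOf_eq_one, Units.val_one, sub_self]
  have hdet : (X ^ m - 1).det = 0 := by
    have := congrArg Matrix.det hp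
    rw [Matrix.det_pow, Matrix.det_zero] at this
    exact (pow_eq_zero_iff (Fact.out : p.Prime).ne_zero).1 this
  rw [e, show (1 : Matrix (Fin 2) (Fin 2) F) = !![1, 0; 0, 1] from Matrix.one_fin_two] at hdet
  simp [Matrix.det_fin_two] at hdet
  rcases eq_or_ne b 0 with rfl | hb
  · have ha : a = 1 := by
      have : (a - 1) * (a - 1) = 0 := by linear_combination hdet
      exact sub_eq_zero.1 (mul_self_eq_zero.1 this)
    have h1 : (comp N s hN) ^ m = 1 := GL_eq (by
      rw [Units.val_pow_eq_pow_val, e, ha, Units.val_one, Matrix.one_fin_two]; simp)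
    have h3 := Nat.le_of_dvd ?_ (orderOf_dvd_of_pow_eq_one h1)
    · have := (Fact.out : p.Prime).two_le
      have : 0 < m := Nat.pos_of_ne_zero fun h0 => (orderOf_pos (comp N s hN)).ne' (by rw [hm, h0, mul_zero])
      nlinarith
    · exact Nat.pos_of_ne_zero fun h0 => (orderOf_pos (comp N s hN)).ne' (by rw [hm, h0, mul_zero])
  · refine hirr (-(a - 1) / b) ?_
    field_simp
    linear_combination hdet

end params

end CfsgLib.G2Square
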