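import Cfsg.Agent.G2Square.Basic
import Cfsg.Agent.Chevalley.RankOne
import Cfsg.Agent.G2Square.GL2

/-!
# The Levi subgroup GL(2, q) of G2 at the long simple root
-/

set_option autoImplicit false

namespace CfsgLib.G2Square

open Cfsg.Lie CfsgLib CfsgLib.Chevalley
open RankOneRel (uMat vMat wMat)
open scoped MatrixGroups

variable {F : Type*} [Field F]

/-- The determinant as a unit. -/
abbrev dt (A : GL (Fin 2) F) : Fˣ := Matrix.GeneralLinearGroup.det A

/-- Diagonal elements. -/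
def dg (a b : Fˣ) : GL (Fin 2) F :=
  Matrix.GeneralLinearGroup.mkOfDetNeZero !![(a : F), 0; 0, b] (by simp [Matrix.det_fin_two_of])

theorem dt_dg (a b : Fˣ) : dt (dg a b) = a * b := Units.ext (by simp [dg, Matrix.det_fin_two_of])

theorem dg_mul (a b c d : Fˣ) : dg a b * dg c d = dg (a * c) (b * d) := by
  apply GL_eq; ext i j; fin_cases i <;> fin_cases j <;> simp [dg, Matrix.mul_apply, Fin.sum_univ_two]

theorem GL2_det (A : GL (Fin 2) F) :
    (dt A : F) = (A : Matrix (Fin 2) (Fin 2) F) 0 0 * (A : Matrix (Fin 2) (Fin 2) F) 1 1 -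
      (A : Matrix (Fin 2) (Fin 2) F) 0 1 * (A : Matrix (Fin 2) (Fin 2) F) 1 0 := by
  simp [dt, Matrix.det_fin_two]

/-- `A · diag(1/det A, 1)`. -/
def toSL (A : GL (Fin 2) F) : Matrix.SpecialLinearGroup (Fin 2) F :=
  ⟨!![(A : Matrix (Fin 2) (Fin 2) F) 0 0 / dt A, (A : Matrix (Fin 2) (Fin 2) F) 0 1;
      (A : Matrix (Fin 2) (Fin 2) F) 1 0 / dt A, (A : Matrix (Fin 2) (Fin 2) F) 1 1], by
    have h := GL2_det A
    have hne := (dt A).ne_zero
    rw [Matrix.det_fin_two_of]
    field_simp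
    linear_combination -h⟩

/-- Conjugation by `diag(d, 1)` as a function. -/
def twFun (d : Fˣ) (g : Matrix.SpecialLinearGroup (Fin 2) F) : Matrix.SpecialLinearGroup (Fin 2) F :=
  ⟨!![g.1 0 0, (d : F) * g.1 0 1; ((d⁻¹ : Fˣ) : F) * g.1 1 0, g.1 1 1], by
    have := RankOneRel.det_eq g
    rw [Matrix.det_fin_two_of]
    linear_combination this - g.1 0 1 * g.1 1 0 * d.mul_inv⟩

theorem twFun_val (d : Fˣ) (g : Matrix.SpecialLinearGroup (Fin 2) F) :
    (twFun d g).1 = !![g.1 0 0, (d : F) * g.1 0 1; ((d⁻¹ : Fˣ) : F) * g.1 1 0, g.1 1 1] := rfl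

/-- Conjugation by `diag(d, 1)`. -/
def tw (d : Fˣ) : Matrix.SpecialLinearGroup (Fin 2) F →* Matrix.SpecialLinearGroup (Fin 2) F where
  toFun := twFun d
  map_one' := by
    apply Subtype.ext
    simp [twFun_val, Matrix.one_fin_two]
  map_mul' g k := by
    apply Subtype.ext
    rw [Matrix.SpecialLinearGroup.coe_mul, twFun_val, twFun_val, twFun_val,
      Matrix.SpecialLinearGroup.coe_mul]
    apply Matrix.ext
    intro p q
    have h1 := d.mul_inv
    fin_cases p <;> fin_cases q <;> simp [Matrix.mul_apply, Fin.sum_univ_two] <;> field_simp <;> ring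

theorem tw_val (d : Fˣ) (g : Matrix.SpecialLinearGroup (Fin 2) F) :
    (tw d g).1 = !![g.1 0 0, (d : F) * g.1 0 1; ((d⁻¹ : Fˣ) : F) * g.1 1 0, g.1 1 1] := rfl

/-- The homomorphism of SL(2) at the long simple root. -/
noncomputable def phi : Matrix.SpecialLinearGroup (Fin 2) F →* GL chevG2.Idx F :=
  (rankOneAt hW F i1).hom

theorem phi_u (t : F) : phi (uMat F t) = x 6 t := (rankOneAt hW F i1).map_uMat t

theorem phi_v (t : F) : phi (vMat F t) = x 5 t := (rankOneAt hW F i1).map_vMat t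

theorem phi_w : phi (wMat F) = n i1 := (rankOneAt hW F i1).map_wMat

theorem wMat_eq : wMat F = uMat F 1 * vMat F (-1) * uMat F 1 := by
  apply Subtype.ext
  apply Matrix.ext
  intro p q
  fin_cases p <;> fin_cases q <;>
    simp [RankOneRel.uMat_val, RankOneRel.vMat_val, RankOneRel.wMat_val, Matrix.mul_apply, Fin.sum_univ_two]

theorem sl2_hom_ext {G : Type*} [Group G] {f g : Matrix.SpecialLinearGroup (Fin 2) F →* G}
    (hu : ∀ t, f (uMat F t) = g (uMat F t)) (hv : ∀ t, f (vMat F t) = g (vMat F t)) : f = g := by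
  refine MonoidHom.eq_of_eqOn_denseM RankOneRel.closure_eq_top ?_
  rintro _ (⟨t, rfl⟩ | hw)
  · exact hu t
  · rw [Set.mem_singleton_iff.1 hw, wMat_eq, map_mul, map_mul, map_mul, map_mul, hu, hv]

theorem phi_diag (g : Matrix.SpecialLinearGroup (Fin 2) F) (a : Fˣ) (h00 : g.1 0 0 = a)
    (h01 : g.1 0 1 = 0) (h10 : g.1 1 0 = 0) : phi g = tr 1 a := by
  show (rankOneAt hW F i1).map g = _
  rw [(rankOneAt hW F i1).map_lower g h10 a h00.symm, h01, zero_div, RankOneRel.x_zero, mul_one,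
    tr_eq, hT_one, one_mul]
  show hT F (pRoot hW i1) a = _
  rw [pRoot_one]

theorem tr_conj_phi (d : Fˣ) (g : Matrix.SpecialLinearGroup (Fin 2) F) :
    conj (tr d (d * d)) (phi g) = phi (tw d g) := by
  refine DFunLike.congr_fun (sl2_hom_ext (f := (MulAut.conj (tr d (d * d))).toMonoidHom.comp phi)
    (g := phi.comp (tw d)) (fun t => ?_) (fun t => ?_)) g
  · show conj (tr d (d * d)) (phi (uMat F t)) = phi (tw d (uMat F t))
    rw [show tw d (uMat F t) = uMat F ((d : F) * t) from Subtype.ext (by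
      rw [tw_val]; simp [RankOneRel.uMat_val]), phi_u, phi_u, tr_conj_x d _ (k := 6) (a := -3) (b := 2) rfl rfl]
    congr 2
    simp only [Units.val_inv_eq_inv_val, Units.val_mul, zpow_neg, zpow_ofNat, Units.val_pow_eq_pow_val]
    field_simp
  · show conj (tr d (d * d)) (phi (vMat F t)) = phi (tw d (vMat F t))
    rw [show tw d (vMat F t) = vMat F (((d⁻¹ : Fˣ) : F) * t) from Subtype.ext (by
      rw [tw_val]; simp [RankOneRel.vMat_val]), phi_v, phi_v, tr_conj_x d _ (k := 5) (a := 3) (b := -2) rfl rfl]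
    congr 2
    simp only [Units.val_inv_eq_inv_val, Units.val_mul, zpow_neg, zpow_ofNat, Units.val_pow_eq_pow_val]
    field_simp

/-- The embedding of GL(2) on the Levi subgroup. -/
noncomputable def Phi : GL (Fin 2) F →* GL chevG2.Idx F where
  toFun A := phi (toSL A) * tr (dt A) (dt A * dt A)
  map_one' := by
    have h : toSL (1 : GL (Fin 2) F) = 1 := by
      apply Subtype.ext
      simp [toSL, Matrix.one_fin_two]
    rw [h, map_one phi, one_mul, dt, map_one, mul_one, tr_one]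
  map_mul' A B := by
    have h : toSL (A * B) = toSL A * tw (dt A) (toSL B) := by
      apply Subtype.ext
      rw [Matrix.SpecialLinearGroup.coe_mul, tw_val]
      have hA := (dt A).ne_zero
      have hB := (dt B).ne_zero
      have hd : (dt (A * B) : F) = dt A * dt B := by simp only [dt, map_mul, Units.val_mul]
      unfold toSL
      apply Matrix.ext
      intro p q
      fin_cases p <;> fin_cases q <;>
        simp only [hd, Units.val_mul, Units.val_inv_eq_inv_val] <;>
        simp [Matrix.mul_apply, Fin.sum_univ_two, -Matrix.GeneralLinearGroup.val_det_apply] <;> field_simp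
    have e : ∀ a b c : GL chevG2.Idx F, a * (b * c) = conj a b * (a * c) := fun a b c => by
      rw [conj]; group
    rw [h, map_mul phi, show dt (A * B) = dt A * dt B from map_mul _ _ _, mul_assoc (phi (toSL A)), mul_assoc (phi (toSL A)),
      e (tr _ _), tr_conj_phi, tr_mul]
    congr 3
    exact mul_mul_mul_comm _ _ _ _

theorem Phi_apply (A : GL (Fin 2) F) : Phi A = phi (toSL A) * tr (dt A) (dt A * dt A) := rfl

theorem Phi_SL (g : Matrix.SpecialLinearGroup (Fin 2) F) :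
    Phi (g : GL (Fin 2) F) = phi g := by
  have hd : dt (g : GL (Fin 2) F) = 1 := Units.ext (by simp [dt])
  have h : toSL (g : GL (Fin 2) F) = g := by
    apply Subtype.ext
    apply Matrix.ext
    intro p q
    fin_cases p <;> fin_cases q <;> simp [toSL, hd]
  rw [Phi_apply, h, hd, mul_one, tr_one, mul_one]

theorem Phi_dg (a b : Fˣ) : Phi (dg a b) = tr (a * b) (a * a * b) := by
  rw [Phi_apply, dt_dg, phi_diag (toSL (dg a b)) b⁻¹ ?_ ?_ ?_, tr_mul]
  · rw [one_mul, show b⁻¹ * (a * b * (a * b)) = a * a * b from Units.ext (by simp; field_simp)]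
  all_goals simp [toSL, dt_dg, dg]
  field_simp

theorem tr_eq_Phi (c0 c1 : Fˣ) : tr c0 c1 = Phi (dg (c1 * c0⁻¹) (c0 * c0 * c1⁻¹)) := by
  rw [Phi_dg]
  congr 1 <;> refine Units.ext ?_ <;> simp <;> field_simp

theorem phi_mem_group (g : Matrix.SpecialLinearGroup (Fin 2) F) : phi g ∈ chevG2.group F := by
  refine (Submonoid.closure_le (S := (chevG2.group F).toSubmonoid.comap phi)).2 ?_
    (RankOneRel.closure_eq_top (F := F) ▸ Submonoid.mem_top g)
  rintro _ (⟨t, rfl⟩ | hw)
  · show phi (uMat F t) ∈ chevG2.group F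
    rw [phi_u]; exact x_mem_group _ _
  · show phi _ ∈ chevG2.group F
    rw [Set.mem_singleton_iff.1 hw, phi_w]; exact n_mem_group _

theorem Phi_mem_group (A : GL (Fin 2) F) : Phi A ∈ chevG2.group F :=
  mul_mem (phi_mem_group _) (tr_mem_group _ _)

/-- A root group normalised by the Levi subgroup. -/
def Stable (L : List ℕ) : Prop :=
  chk 6 L = true ∧ (L.all fun r => L.contains (chevG2.reflectRoot (i1 : ℕ) r)) = true

theorem Phi_conj_rs {L : List ℕ} (hL : Stable L) (A : GL (Fin 2) F) {u : GL chevG2.Idx F}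
    (hu : u ∈ rs F L) : conj (Phi A) u ∈ rs F L := by
  let S : Submonoid (Matrix.SpecialLinearGroup (Fin 2) F) :=
    { carrier := {g | ∀ w ∈ rs F L, conj (phi g) w ∈ rs F L}
      one_mem' := fun w hw => by simpa [conj] using hw
      mul_mem' := fun {a b} ha hb w hw => by
        have e : conj (phi (a * b)) w = conj (phi a) (conj (phi b) w) := by
          simp only [conj, map_mul]; group
        rw [e]; exact ha _ (hb _ hw) }
  have hS : toSL A ∈ S := by
    refine (Submonoid.closure_le (S := S)).2 ?_ (RankOneRel.closure_eq_top (F := F) ▸ Submonoid.mem_top _)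
    rintro _ (⟨t, rfl⟩ | hw)
    · intro w h'
      rw [phi_u]; exact conj_mem_rs hL.1 t h'
    · intro w h'
      rw [Set.mem_singleton_iff.1 hw, phi_w]; exact n_conj_rs hL.2 h'
  have e : conj (Phi A) u = conj (phi (toSL A)) (conj (tr (dt A) (dt A * dt A)) u) := by
    simp only [conj, Phi_apply]; group
  rw [e]
  exact hS _ (diag_conj_rs (tr_mem_diag _ _) hu)

theorem stable_pos : Stable [7, 8, 9, 10, 11] := ⟨by decide, by decide⟩

theorem stable_neg : Stable [0, 1, 2, 3, 4] := ⟨by decide, by decide⟩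

/-! ### The reflection in the orthogonal short root -/

theorem n0_conj_tr (c0 c1 : Fˣ) :
    conj (n i0 : GL chevG2.Idx F) (tr c0 c1) = tr (c1 * c0⁻¹) c1 := by
  have e : conj (n i0 : GL chevG2.Idx F) (tr c0 c1) =
      (nR hW i0 * hT F (rt 7) c0 * (nR hW i0)⁻¹) * (nR hW i0 * hT F (rt 6) c1 * (nR hW i0)⁻¹) := by
    rw [tr_eq, conj, n]; group
  rw [e, nR_conj_hT, nR_conj_hT, show wPerm hW i0 (rt 7) = rt 4 from Fin.ext (hW.wPerm_val _ _),
    show wPerm hW i0 (rt 6) = rt 10 from Fin.ext (hW.wPerm_val _ _), hT_eq_torC, hT_eq_torC,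
    torC_mul, tr]
  congr 1
  funext k
  have hk : (k : ℕ) < 2 := k.isLt
  by_cases h : (k : ℕ) = 0
  · obtain rfl : k = i0 := Fin.ext h
    show c0 ^ (-1 : ℤ) * c1 ^ (1 : ℤ) = _
    simp [mul_comm]
  · obtain rfl : k = i1 := Fin.ext (show (k : ℕ) = 1 by omega)
    show c0 ^ (0 : ℤ) * c1 ^ (1 : ℤ) = _
    simp

theorem n1_conj_tr (c0 c1 : Fˣ) :
    conj (n i1 : GL chevG2.Idx F) (tr c0 c1) = tr c0 (c0 ^ 3 * c1⁻¹) := by
  have e : conj (n i1 : GL chevG2.Idx F) (tr c0 c1) =
      (nR hW i1 * hT F (rt 7) c0 * (nR hW i1)⁻¹) * (nR hW i1 * hT F (rt 6) c1 * (nR hW i1)⁻¹) := by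
    rw [tr_eq, conj, n]; group
  rw [e, nR_conj_hT, nR_conj_hT, show wPerm hW i1 (rt 7) = rt 8 from Fin.ext (hW.wPerm_val _ _),
    show wPerm hW i1 (rt 6) = rt 5 from Fin.ext (hW.wPerm_val _ _), hT_eq_torC, hT_eq_torC,
    torC_mul, tr]
  congr 1
  funext k
  have hk : (k : ℕ) < 2 := k.isLt
  by_cases h : (k : ℕ) = 0
  · obtain rfl : k = i0 := Fin.ext h
    show c0 ^ (1 : ℤ) * c1 ^ (0 : ℤ) = _
    simp
  · obtain rfl : k = i1 := Fin.ext (show (k : ℕ) = 1 by omega)
    show c0 ^ (3 : ℤ) * c1 ^ (-1 : ℤ) = _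
    simp [zpow_ofNat]

/-- The reflection. -/
def np : GL chevG2.Idx F := n i0 * n i1 * n i0 * n i1 * n i0

theorem np_mem_group : (np : GL chevG2.Idx F) ∈ chevG2.group F :=
  mul_mem (mul_mem (mul_mem (mul_mem (n_mem_group _) (n_mem_group _)) (n_mem_group _))
    (n_mem_group _)) (n_mem_group _)

theorem np_conj (g : GL chevG2.Idx F) :
    conj np g = conj (n i0) (conj (n i1) (conj (n i0) (conj (n i1) (conj (n i0) g)))) := by
  simp only [np, conj]; group

theorem np_conj_tr (d : Fˣ) : conj (np : GL chevG2.Idx F) (tr d (d * d)) = tr d⁻¹ d⁻¹ := by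
  rw [np_conj, n0_conj_tr, n1_conj_tr, n0_conj_tr, n1_conj_tr, n0_conj_tr]
  congr 1 <;> refine Units.ext ?_ <;> simp <;> field_simp

theorem np_conj_phi (g : Matrix.SpecialLinearGroup (Fin 2) F) : conj np (phi g) = phi g := by
  refine DFunLike.congr_fun (sl2_hom_ext (f := (MulAut.conj (np : GL chevG2.Idx F)).toMonoidHom.comp phi)
    (g := phi) (fun t => ?_) (fun t => ?_)) g
  · show conj np (phi (uMat F t)) = _
    rw [phi_u, np_conj, n_conj_x i0 (k := 6) (k' := 10) (z := 1) rfl rfl,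
      n_conj_x i1 (k := 10) (k' := 11) (z := 1) rfl rfl, n_conj_x i0 (k := 11) (k' := 11) (z := 1) rfl rfl,
      n_conj_x i1 (k := 11) (k' := 10) (z := -1) rfl rfl, n_conj_x i0 (k := 10) (k' := 6) (z := -1) rfl rfl]
    congr 1; push_cast; ring
  · show conj np (phi (vMat F t)) = _
    rw [phi_v, np_conj, n_conj_x i0 (k := 5) (k' := 1) (z := 1) rfl rfl,
      n_conj_x i1 (k := 1) (k' := 0) (z := 1) rfl rfl, n_conj_x i0 (k := 0) (k' := 0) (z := 1) rfl rfl,
      n_conj_x i1 (k := 0) (k' := 1) (z := -1) rfl rfl, n_conj_x i0 (k := 1) (k' := 5) (z := -1) rfl rfl]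
    congr 1; push_cast; ring

theorem np_conj_Phi (A : GL (Fin 2) F) :
    conj np (Phi A) = Phi (dg (dt A)⁻¹ (dt A)⁻¹ * A) := by
  have e : conj np (Phi A) = conj np (phi (toSL A)) * conj np (tr (dt A) (dt A * dt A)) := by
    simp only [Phi_apply, conj]; group
  set d := dt A
  have hA : Phi A = phi (toSL A) * tr d (d * d) := Phi_apply A
  rw [e, np_conj_phi, np_conj_tr, map_mul, Phi_dg, eq_mul_inv_of_mul_eq hA.symm, mul_assoc, tr_inv, tr_mul]
  rw [show d⁻¹ * d⁻¹ = d⁻¹ * d⁻¹ * 1 by rw [mul_one]]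
  have hcomm : Commute (Phi A) (tr (d⁻¹ * d⁻¹) (d⁻¹ * d⁻¹ * d⁻¹)) := by
    rw [← Phi_dg]
    refine (Commute.map ?_ Phi)
    refine GL_eq ?_
    ext i j; fin_cases i <;> fin_cases j <;> simp [dg, Matrix.mul_apply, Fin.sum_univ_two, mul_comm]
  simp only [mul_one]
  rw [hcomm.eq.symm]
  congr 2 <;> refine Units.ext ?_ <;> simp <;> field_simp

theorem np_rs_pos {u : GL chevG2.Idx F} (hu : u ∈ rs F [7, 8, 9, 10, 11]) :
    conj np u ∈ rs F [0, 1, 2, 3, 4] := by
  rw [np_conj]
  exact n_conj_rs (L := [2, 7, 3, 0, 5]) (by decide) (n_conj_rs (L := [2, 8, 4, 1, 6]) (by decide)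
    (n_conj_rs (L := [3, 9, 7, 5, 10]) (by decide) (n_conj_rs (L := [4, 9, 8, 6, 11]) (by decide)
      (n_conj_rs (L := [7, 8, 9, 10, 11]) (by decide) hu))))

theorem np_rs_neg {u : GL chevG2.Idx F} (hu : u ∈ rs F [0, 1, 2, 3, 4]) :
    conj np u ∈ rs F [7, 8, 9, 10, 11] := by
  rw [np_conj]
  exact n_conj_rs (L := [6, 11, 8, 4, 9]) (by decide) (n_conj_rs (L := [5, 10, 7, 3, 9]) (by decide)
    (n_conj_rs (L := [1, 6, 4, 2, 8]) (by decide) (n_conj_rs (L := [0, 5, 3, 2, 7]) (by decide)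
      (n_conj_rs (L := [0, 1, 2, 3, 4]) (by decide) hu))))

end CfsgLib.G2Square
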