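import Cfsg.Agent.G2Square.Absorb

/-!
# The elements of GL(2, q) that are products of two elements from the classes
-/

set_option autoImplicit false

namespace CfsgLib.G2Square

open scoped MatrixGroups

variable {F : Type*} [Field F] [Fintype F] {N : Fˣ} {s : F}

omit [Fintype F] in
theorem notDouble_inv (h : NotDouble (N : F) s) : NotDouble (N : F)⁻¹ (s / N) := by
  intro r hr hr'
  have hn := N.ne_zero
  refine h (r * N) ?_ ?_
  · field_simp at hr; linear_combination hr
  · field_simp at hr'; linear_combination (N : F) * hr'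

omit [Fintype F] in
theorem notDouble_of_irred {N s : F} (h : ∀ r : F, r * r - s * r + N ≠ 0) : NotDouble N s :=
  fun r hr hr' => h r (by linear_combination r * hr - hr')

omit [Fintype F] in
theorem inCl_self : InCl (X0 N s) (X0 N s) := Or.inl (IsConj.refl _)

omit [Fintype F] in
theorem inCl_inv : InCl (X0 N s) (X0 N s)⁻¹ := Or.inr (IsConj.refl _)

omit [Fintype F] in
theorem inCl_of_eq {A : GL (Fin 2) F} (hA : NonScalar (A : Matrix (Fin 2) (Fin 2) F))
    (hd : (A : Matrix (Fin 2) (Fin 2) F).det = N) (ht : (A : Matrix (Fin 2) (Fin 2) F).trace = s) :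
    InCl (X0 N s) A :=
  Or.inl (isConj_of_eq (comp_nonScalar _ _ _) hA (by rw [comp_det, hd]) (by rw [comp_trace, ht]))

omit [Fintype F] in
theorem inCl_of_eq_inv {A : GL (Fin 2) F} (hA : NonScalar (A : Matrix (Fin 2) (Fin 2) F))
    (hd : (A : Matrix (Fin 2) (Fin 2) F).det = (N : F)⁻¹)
    (ht : (A : Matrix (Fin 2) (Fin 2) F).trace = s / N) :
    InCl (X0 N s) A :=
  Or.inr (isConj_of_eq (X0_inv_nonScalar N s) hA (by rw [X0_inv_det, hd]) (by rw [X0_inv_trace, ht]))

omit [Fintype F] in
/-- Non-scalar elements with a point on the conic. -/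
theorem good_of_point (hnd : NotDouble (N : F) s) {C : GL (Fin 2) F}
    (hC : NonScalar (C : Matrix (Fin 2) (Fin 2) F)) {e1 e2 : Bool}
    {N1 s1 N2 s2 : F} (h1 : (N1, s1) = if e1 then ((N : F), s) else ((N : F)⁻¹, s / N))
    (h2 : (N2, s2) = if e2 then ((N : F), s) else ((N : F)⁻¹, s / N))
    (hd : (C : Matrix (Fin 2) (Fin 2) F).det = N1 * N2)
    (hpt : HasPoint (N1 * N2) (C : Matrix (Fin 2) (Fin 2) F).trace s1 (N1 * s2) (N1 * (N1 * N2))) :
    Good (X0 N s) C := by
  have key : ∀ (e : Bool) (M t : F), (M, t) = (if e then ((N : F), s) else ((N : F)⁻¹, s / N)) →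
      ∃ Z : GL (Fin 2) F, InCl (X0 N s) Z ∧ (Z : Matrix (Fin 2) (Fin 2) F).det = M ∧
        (Z : Matrix (Fin 2) (Fin 2) F).trace = t ∧ NotDouble M t ∧
        (Z = X0 N s ∨ Z = (X0 N s)⁻¹) := by
    intro e M t h
    cases e
    · simp only [Bool.false_eq_true, if_false, Prod.mk.injEq] at h
      obtain ⟨rfl, rfl⟩ := h
      exact ⟨_, inCl_inv, X0_inv_det N s, X0_inv_trace N s, notDouble_inv hnd, Or.inr rfl⟩
    · simp only [if_true, Prod.mk.injEq] at h
      obtain ⟨rfl, rfl⟩ := h
      exact ⟨_, inCl_self, comp_det _ _ _, comp_trace _ _ _, hnd, Or.inl rfl⟩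
  obtain ⟨Z1, -, d1, t1, n1, f1⟩ := key e1 N1 s1 h1
  obtain ⟨Z2, -, d2, t2, n2, f2⟩ := key e2 N2 s2 h2
  obtain ⟨A, B, hA, hB, e⟩ := exists_factor d1 t1 d2 t2 n1 n2 hC hd hpt
  refine ⟨A, B, ?_, ?_, e⟩
  · rcases f1 with rfl | rfl
    · exact Or.inl hA
    · exact Or.inr hA
  · rcases f2 with rfl | rfl
    · exact Or.inl hB
    · exact Or.inr hB

omit [Fintype F] in
/-- The identity. -/
theorem good_one : Good (X0 N s) 1 := ⟨_, _, inCl_self, inCl_inv, mul_inv_cancel _⟩

omit [Fintype F] in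
/-- The scalar `N`. -/
theorem good_scalarN : Good (X0 N s) (dg N N) := by
  have hn := N.ne_zero
  refine ⟨X0 N s, dg N N * (X0 N s)⁻¹, inCl_self, ?_, ?_⟩
  · have hval : ((dg N N * (X0 N s)⁻¹ : GL (Fin 2) F) : Matrix (Fin 2) (Fin 2) F) =
        !![s, (N : F); -1, 0] := by
      rw [Units.val_mul, X0_inv_val]
      show !![(N : F), 0; 0, (N : F)] * _ = _
      ext i j; fin_cases i <;> fin_cases j <;> simp [Matrix.mul_apply, Fin.sum_univ_two] <;> field_simp
    refine inCl_of_eq ?_ ?_ ?_
    · rw [hval]; exact Or.inr (Or.inl (by simp))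
    · rw [hval, Matrix.det_fin_two_of]; simp
    · rw [hval, trace_two]; simp
  · have hc : Commute (dg N N) (X0 N s) := GL_eq (by
      rw [Units.val_mul, Units.val_mul]
      show !![(N : F), 0; 0, (N : F)] * !![0, -(N : F); 1, s] = !![0, -(N : F); 1, s] * !![(N : F), 0; 0, (N : F)]
      ext i j; fin_cases i <;> fin_cases j <;> simp [Matrix.mul_apply, Fin.sum_univ_two, mul_comm])
    rw [← mul_assoc, ← hc.eq, mul_inv_cancel_right]

omit [Fintype F] in
/-- The scalar `N⁻¹`. -/
theorem good_scalarInv : Good (X0 N s) (dg N⁻¹ N⁻¹) := by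
  have hn := N.ne_zero
  refine ⟨(X0 N s)⁻¹, dg N⁻¹ N⁻¹ * X0 N s, inCl_inv, ?_, ?_⟩
  · have hval : ((dg N⁻¹ N⁻¹ * X0 N s : GL (Fin 2) F) : Matrix (Fin 2) (Fin 2) F) =
        !![0, -1; (N : F)⁻¹, s / N] := by
      rw [Units.val_mul]
      show !![((N⁻¹ : Fˣ) : F), 0; 0, ((N⁻¹ : Fˣ) : F)] * !![0, -(N : F); 1, s] = _
      ext i j; fin_cases i <;> fin_cases j <;> simp [Matrix.mul_apply, Fin.sum_univ_two] <;> field_simp
    refine inCl_of_eq_inv ?_ ?_ ?_
    · rw [hval]; exact Or.inr (Or.inl (by simp))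
    · rw [hval, Matrix.det_fin_two_of]; simp
    · rw [hval, trace_two]; simp
  · have hc : Commute (dg N⁻¹ N⁻¹) (X0 N s) := GL_eq (by
      rw [Units.val_mul, Units.val_mul]
      show !![((N⁻¹ : Fˣ) : F), 0; 0, ((N⁻¹ : Fˣ) : F)] * !![0, -(N : F); 1, s] = !![0, -(N : F); 1, s] * !![((N⁻¹ : Fˣ) : F), 0; 0, ((N⁻¹ : Fˣ) : F)]
      ext i j; fin_cases i <;> fin_cases j <;> simp [Matrix.mul_apply, Fin.sum_univ_two, mul_comm])
    rw [hc.eq, inv_mul_cancel_left]

/-! ### Odd order -/

/-- In odd order every element of determinant one is covered. -/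
theorem good_odd (h2 : (2 : F) ≠ 0) (hN : (N : F) = -1) (hs : s ≠ 0)
    (hirr : ∀ r : F, r * r - s * r + (-1) ≠ 0) {C : GL (Fin 2) F} (hC : dt C = 1) :
    Good (X0 N s) C := by
  have hnd : NotDouble (N : F) s := by rw [hN]; exact notDouble_of_irred hirr
  have hdC : (C : Matrix (Fin 2) (Fin 2) F).det = 1 := congrArg Units.val hC
  by_cases hsc : NonScalar (C : Matrix (Fin 2) (Fin 2) F)
  · set τ := (C : Matrix (Fin 2) (Fin 2) F).trace
    by_cases hdisc : τ ^ 2 = 4 * (1 : F)
    · have hz : τ = 2 ∨ τ = -2 := by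
        have h : (τ - 2) * (τ + 2) = 0 := by linear_combination hdisc
        rcases mul_eq_zero.1 h with h | h
        · exact Or.inl (sub_eq_zero.1 h)
        · exact Or.inr (eq_neg_of_add_eq_zero_left h)
      have hss : s + s ≠ 0 := by rw [← two_mul]; exact mul_ne_zero h2 hs
      rcases hz with hz | hz
      · refine good_of_point hnd hsc (e1 := true) (e2 := true) rfl rfl (by rw [hdC, hN]; ring) ?_
        rw [hN, show (C : Matrix (Fin 2) (Fin 2) F).trace = 1 + 1 by
          rw [show (1 : F) + 1 = 2 by norm_num]; exact hz, show (-1 : F) * -1 = 1 * 1 by ring]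
        refine hasPoint_double one_ne_zero _ _ _ (Or.inl fun e => hss ?_)
        linear_combination -e
      · refine good_of_point hnd hsc (e1 := true) (e2 := false) rfl rfl (by rw [hdC, hN]; norm_num) ?_
        rw [hN, show (C : Matrix (Fin 2) (Fin 2) F).trace = -1 + -1 by
          rw [show (-1 : F) + -1 = -2 by norm_num]; exact hz,
          show (-1 : F) * (-1)⁻¹ = (-1) * (-1) by norm_num]
        refine hasPoint_double (neg_ne_zero.2 one_ne_zero) _ _ _ (Or.inl fun e => hss ?_)
        rw [div_neg, div_one] at e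
        linear_combination e
    · refine good_of_point hnd hsc (e1 := true) (e2 := true) rfl rfl (by rw [hdC, hN]; ring) ?_
      refine hasPoint_of_disc _ _ _ ?_
      rw [hN, show (-1 : F) * -1 = 1 by ring]
      exact hdisc
  · obtain ⟨z, hz⟩ := (not_iff_comm.1 (nonScalar_iff _).symm).1 hsc
    have hz2 : z * z = 1 := by rw [hz, Matrix.det_fin_two_of] at hdC; linear_combination hdC
    rcases mul_self_eq_one_iff.1 hz2 with rfl | rfl
    · rw [show C = 1 from GL_eq (by rw [hz, Units.val_one, Matrix.one_fin_two])]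
      exact good_one
    · rw [show C = dg N N from GL_eq (by
        rw [hz]; show _ = !![(N : F), 0; 0, (N : F)]; rw [hN])]
      exact good_scalarN

/-! ### Even order -/

omit [Fintype F] in
theorem four_eq_zero (h2 : (2 : F) = 0) : (4 : F) = 0 := by
  rw [show (4 : F) = 2 * 2 by norm_num, h2, mul_zero]

omit [Fintype F] in
theorem eq_of_sq_eq (h2 : (2 : F) = 0) {a b : F} (h : a * a = b * b) : a = b := by
  have : (a - b) * (a - b) = 0 := by linear_combination h - (a * b - b * b) * h2
  exact sub_eq_zero.1 (mul_self_eq_zero.1 this)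

/-- In even order, a split element covers everything of determinant one. -/
theorem good_even_split (h2 : (2 : F) = 0) {a b : F} (hN : (N : F) = a * b) (hs : s = a + b)
    (hab : a ≠ b) {C : GL (Fin 2) F} (hC : dt C = 1) : Good (X0 N s) C := by
  have hnd : NotDouble (N : F) s := by
    intro r hr _
    have : a + b = 0 := by rw [← hs, ← hr]; linear_combination r * h2
    exact hab (by linear_combination this - b * h2)
  have hdC : (C : Matrix (Fin 2) (Fin 2) F).det = 1 := congrArg Units.val hC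
  have hn := N.ne_zero
  by_cases hsc : NonScalar (C : Matrix (Fin 2) (Fin 2) F)
  · set τ := (C : Matrix (Fin 2) (Fin 2) F).trace
    refine good_of_point hnd hsc (e1 := true) (e2 := false) rfl rfl (by rw [hdC]; field_simp) ?_
    rw [show (N : F) * (N : F)⁻¹ = 1 * 1 by field_simp]
    by_cases hτ : τ = 0
    · rw [show (C : Matrix (Fin 2) (Fin 2) F).trace = 1 + 1 by
        rw [show (1 : F) + 1 = 2 by norm_num, h2]; exact hτ]
      refine hasPoint_double one_ne_zero _ _ _ (Or.inr ⟨a, ?_⟩)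
      have hb : b ≠ 0 := fun e => hn (by rw [hN, e, mul_zero])
      have ha : a ≠ 0 := fun e => hn (by rw [hN, e, zero_mul])
      rw [hs, hN, one_mul, mul_one]
      field_simp
      linear_combination (a * a + a * b) * h2
    · refine hasPoint_of_disc _ _ _ ?_
      rw [four_eq_zero h2, zero_mul]
      exact pow_ne_zero 2 hτ
  · obtain ⟨z, hz⟩ := (not_iff_comm.1 (nonScalar_iff _).symm).1 hsc
    have hz2 : z * z = 1 * 1 := by rw [hz, Matrix.det_fin_two_of] at hdC; linear_combination hdC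
    obtain rfl := eq_of_sq_eq h2 hz2
    rw [show C = 1 from GL_eq (by rw [hz, Units.val_one, Matrix.one_fin_two])]
    exact good_one

/-- For four elements: scalars and elements of nonzero trace. -/
theorem good_four (h2 : (2 : F) = 0) (hnd : NotDouble (N : F) s)
    (hN3 : (N : F) ^ 3 = 1)
    (hunits : ∀ z : F, z ≠ 0 → z = 1 ∨ z = (N : F) ∨ z = (N : F)⁻¹) {C : GL (Fin 2) F}
    (hC : ¬ NonScalar (C : Matrix (Fin 2) (Fin 2) F) ∨ (C : Matrix (Fin 2) (Fin 2) F).trace ≠ 0) :
    Good (X0 N s) C := by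
  have hn := N.ne_zero
  have hd0 : (C : Matrix (Fin 2) (Fin 2) F).det ≠ 0 := (dt C).ne_zero
  by_cases hsc : NonScalar (C : Matrix (Fin 2) (Fin 2) F)
  · have hτ := hC.resolve_left (fun h => h hsc)
    have hdisc : ∀ δ : F, (C : Matrix (Fin 2) (Fin 2) F).trace ^ 2 ≠ 4 * δ := fun δ => by
      rw [four_eq_zero h2, zero_mul]; exact pow_ne_zero 2 hτ
    rcases hunits _ hd0 with h | h | h
    · exact good_of_point hnd hsc (e1 := true) (e2 := false) rfl rfl (by rw [h]; field_simp)
        (hasPoint_of_disc _ _ _ (hdisc _))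
    · refine good_of_point hnd hsc (e1 := false) (e2 := false) rfl rfl ?_ (hasPoint_of_disc _ _ _ (hdisc _))
      rw [h]
      field_simp
      linear_combination hN3
    · refine good_of_point hnd hsc (e1 := true) (e2 := true) rfl rfl ?_ (hasPoint_of_disc _ _ _ (hdisc _))
      rw [h]
      field_simp
      linear_combination -hN3
  · obtain ⟨z, hz⟩ := (not_iff_comm.1 (nonScalar_iff _).symm).1 hsc
    have hz0 : z ≠ 0 := fun e => hd0 (by rw [hz, e, Matrix.det_fin_two_of]; simp)
    rcases hunits z hz0 with rfl | rfl | rfl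
    · rw [show C = 1 from GL_eq (by rw [hz, Units.val_one, Matrix.one_fin_two])]
      exact good_one
    · rw [show C = dg N N from GL_eq hz]
      exact good_scalarN
    · rw [show C = dg N⁻¹ N⁻¹ from GL_eq (by rw [hz]; show _ = !![((N⁻¹ : Fˣ) : F), 0; 0, ((N⁻¹ : Fˣ) : F)]; rw [Units.val_inv_eq_inv_val])]
      exact good_scalarInv

end CfsgLib.G2Square
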