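import Cfsg.Agent.G2Square.Four
import Cfsg.Agent.G2Square.Targets

/-!
# The choice of the element
-/

set_option autoImplicit false

namespace CfsgLib.G2Square

open Cfsg.Lie CfsgLib CfsgLib.Chevalley
open scoped MatrixGroups

variable {F : Type*} [Field F] [Fintype F]

theorem not_dvd_of_dvd {p a b : ℕ} (h : a ∣ b) (hb : ¬ p ∣ b) : ¬ p ∣ a := fun h' => hb (h'.trans h)

/-- A semisimple element whose class squared is everything. -/
theorem exists_element (p : ℕ) [Fact p.Prime] [CharP F p] (h3 : 3 ≤ Fintype.card F) :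
    ∃ (N : Fˣ) (s : F), ¬ p ∣ orderOf (X0 N s) ∧
      ∀ g : GL chevG2.Idx F, g ∈ chevG2.group F → Sq (x0 N s) g := by
  classical
  by_cases h2 : (2 : F) = 0
  swap
  · obtain ⟨s, hs, hirr⟩ := exists_odd_param h2 h3
    have hp : Param (F := F) (-1) s :=
      ⟨by rw [Units.val_neg, Units.val_one]; exact fun e => hs (by linear_combination -e), by
        rw [Units.val_neg, Units.val_one]
        exact fun e => h2 (by linear_combination -e), by
        rw [Units.val_neg, Units.val_one]
        intro e; exact hs (by linear_combination e)⟩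
    refine ⟨-1, s, not_dvd_order_comp p _ (by simpa using hirr), fun g hg => ?_⟩
    refine sq_all hp (fun C hC => good_odd h2 (by simp) hs hirr hC) ⟨-1, fun e => h2 ?_⟩ hg
    have e' := congrArg Units.val e
    rw [Units.val_neg, Units.val_one] at e'
    linear_combination -e'
  have hp2 : p = 2 := by
    have : ((2 : ℕ) : F) = 0 := by exact_mod_cast h2
    rw [CharP.cast_eq_zero_iff F p] at this
    exact (Nat.prime_dvd_prime_iff_eq (Fact.out : p.Prime) Nat.prime_two).1 this
  obtain ⟨n, hpr, hcard⟩ := FiniteField.card F p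
  have hnot : ¬ p ∣ Fintype.card F - 1 := by
    intro h
    have h' : p ∣ Fintype.card F := by rw [hcard]; exact dvd_pow_self _ n.pos.ne'
    have h1 := Nat.dvd_sub h' h
    rw [Nat.sub_sub_self (by omega)] at h1
    exact hpr.not_dvd_one h1
  have hu : Fintype.card Fˣ = Fintype.card F - 1 := Fintype.card_units F
  obtain ⟨γ, hγ⟩ := IsCyclic.exists_generator (α := Fˣ)
  have hord : orderOf γ = Fintype.card F - 1 := by
    rw [orderOf_eq_card_of_forall_mem_zpowers hγ, Nat.card_eq_fintype_card, hu]
  by_cases h4 : Fintype.card F = 4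
  · have hcube : ∀ z : Fˣ, z ^ 3 = 1 := fun z => by
      have := pow_card_eq_one (G := Fˣ) (x := z)
      rwa [hu, h4] at this
    set N := γ
    have hN1 : N ≠ 1 := fun e => by rw [e, orderOf_one] at hord; omega
    have hN : (N : F) ≠ 1 := fun e => hN1 (Units.ext e)
    have hN3 : (N : F) ^ 3 = 1 := by rw [← Units.val_pow_eq_pow_val, hcube, Units.val_one]
    obtain ⟨s, hirr⟩ := exists_irred N.ne_zero
    have hs : s ≠ 0 := by
      rintro rfl
      obtain ⟨r, hr⟩ := FiniteField.isSquare_of_char_two
        (CharP.ringChar_of_prime_eq_zero Nat.prime_two (by exact_mod_cast h2)) (N : F)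
      exact hirr r (by linear_combination -hr + (N : F) * h2)
    have hsN : (1 : F) - s + N ≠ 0 := fun e => hirr 1 (by linear_combination e)
    have hp : Param N s := ⟨hsN, hN, by
      rw [hN3]
      intro e
      exact mul_ne_zero hs N.ne_zero (by linear_combination -e + h2)⟩
    have hunits : ∀ z : F, z ≠ 0 → z = 1 ∨ z = (N : F) ∨ z = (N : F)⁻¹ := by
      intro z hz
      have h := hγ (Units.mk0 z hz)
      obtain ⟨k, hk⟩ := h
      have hk3 : N ^ (k % 3) = Units.mk0 z hz := by
        rw [← hk]
        conv_rhs => dsimp only; rw [← Int.emod_add_mul_ediv k 3, zpow_add, zpow_mul]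
        rw [show N ^ (3 : ℤ) = 1 from by exact_mod_cast hcube N, one_zpow, mul_one]
      have h0 : 0 ≤ k % 3 := Int.emod_nonneg k (by norm_num)
      have h1 : k % 3 < 3 := Int.emod_lt_of_pos k (by norm_num)
      have hval := congrArg Units.val hk3
      rw [Units.val_mk0] at hval
      interval_cases hh : k % 3
      · left; simpa using hval.symm
      · right; left; simpa using hval.symm
      · right; right
        rw [← hval, show ((2 : ℤ)) = ((2 : ℕ) : ℤ) from rfl, zpow_natCast, Units.val_pow_eq_pow_val]
        field_simp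
        linear_combination hN3
    refine ⟨N, s, not_dvd_order_comp p _ hirr, fun g hg => ?_⟩
    exact sq_all_four ⟨h2, hcube, hN, hp,
      fun C hC => good_four h2 (notDouble_of_irred hirr) hN3 hunits hC⟩ hg
  · have h8 : 8 ≤ Fintype.card F := by
      rw [hcard, hp2] at h3 h4 ⊢
      rcases Nat.lt_or_ge (n : ℕ) 3 with h | h
      · interval_cases hn : (n : ℕ) <;> simp_all
      · calc 8 = 2 ^ 3 := rfl
          _ ≤ 2 ^ (n : ℕ) := Nat.pow_le_pow_right (by norm_num) h
    have hne : ∀ k : ℕ, 0 < k → k ≤ 6 → (γ : F) ^ k ≠ 1 := fun k hk hk' e => by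
      have : γ ^ k = 1 := Units.ext (by rw [Units.val_pow_eq_pow_val, e, Units.val_one])
      have := Nat.le_of_dvd hk (orderOf_dvd_of_pow_eq_one this)
      omega
    have hadd : ∀ t : F, t ≠ 1 → 1 + t ≠ 0 := fun t ht e => ht (by linear_combination e - h2)
    set a : F := (γ : F)
    set b : F := (γ : F) ^ 2
    have hab : a ≠ b := fun e => hne 1 one_pos (by norm_num) (by
      rw [pow_one]; exact mul_left_cancel₀ γ.ne_zero (by linear_combination -e))
    have hp : Param (γ ^ 3) (a + b) := by
      refine ⟨?_, ?_, ?_⟩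
      · rw [Units.val_pow_eq_pow_val]
        intro e
        apply mul_ne_zero (hadd a (by simpa using hne 1 one_pos (by norm_num))) (hadd b (hne 2 two_pos (by norm_num)))
        linear_combination e + (a + b) * h2
      · rw [Units.val_pow_eq_pow_val]; exact hne 3 (by norm_num) (by norm_num)
      · rw [Units.val_pow_eq_pow_val]
        intro e
        apply mul_ne_zero (hadd _ (hne 4 (by norm_num) (by norm_num))) (hadd _ (hne 5 (by norm_num) (by norm_num)))
        linear_combination e + ((γ : F) ^ 4 + (γ : F) ^ 5) * h2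
    refine ⟨γ ^ 3, a + b, ?_, fun g hg => ?_⟩
    · refine not_dvd_of_dvd ?_ hnot
      have hc : IsConj (dg γ (γ * γ)) (X0 (γ ^ 3) (a + b)) := by
        refine isConj_of_eq ?_ (comp_nonScalar _ _ _) ?_ ?_
        · refine Or.inr (Or.inr ?_)
          show (γ : F) ≠ ((γ * γ : Fˣ) : F)
          rw [Units.val_mul, ← pow_two]; exact hab
        · rw [comp_det]
          show Matrix.det !![(γ : F), 0; 0, ((γ * γ : Fˣ) : F)] = _
          rw [Matrix.det_fin_two_of]; push_cast; ring
        · rw [comp_trace]
          show Matrix.trace !![(γ : F), 0; 0, ((γ * γ : Fˣ) : F)] = _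
          rw [trace_two]; simp [a, b, pow_two]
      obtain ⟨P, hP⟩ := isConj_iff.1 hc
      rw [← hP]
      refine orderOf_dvd_of_pow_eq_one ?_
      have hpow : ∀ (k : ℕ) (c d : Fˣ), (dg c d) ^ k = dg (c ^ k) (d ^ k) := by
        intro k c d
        induction k with
        | zero => rw [pow_zero, pow_zero, pow_zero]; apply GL_eq; simp [dg, Matrix.one_fin_two]
        | succ k ih => rw [pow_succ, ih, dg_mul, pow_succ, pow_succ]
      rw [conj_pow, hpow, mul_pow, ← hord, pow_orderOf_eq_one, one_mul,
        show dg (1 : Fˣ) 1 = (1 : GL (Fin 2) F) from GL_eq (by simp [dg, Matrix.one_fin_two]),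
        mul_one, mul_inv_cancel]
    · refine sq_all hp (fun C hC => good_even_split h2 ?_ rfl hab hC) ⟨γ, fun e => ?_⟩ hg
      · simp only [a, b]; push_cast; ring
      · exact hne 1 one_pos (by norm_num) (by rw [pow_one]; simp [a, e])

end CfsgLib.G2Square
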