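import Cfsg.Agent.G2Square.Absorb

/-!
# Rank one moves and the mirror `g ↦ n_0 g⁻¹ n_0⁻¹`
-/

set_option autoImplicit false

namespace CfsgLib.G2Square

open Cfsg.Lie CfsgLib CfsgLib.Chevalley
open RankOneRel (uMat vMat wMat)
open scoped MatrixGroups

variable {F : Type*} [Field F]

/-- `diag(m, 1/m)`. -/
def dgSL (m : Fˣ) : Matrix.SpecialLinearGroup (Fin 2) F :=
  ⟨!![(m : F), 0; 0, ((m⁻¹ : Fˣ) : F)], by simp [Matrix.det_fin_two_of]⟩

theorem sl2_swap (b a : F) (m : Fˣ) (hm : (m : F) = 1 + a * b) :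
    uMat F b * vMat F a = vMat F (a / m) * dgSL m * uMat F (b / m) := by
  apply Subtype.ext
  have hne := m.ne_zero
  rw [Matrix.SpecialLinearGroup.coe_mul, Matrix.SpecialLinearGroup.coe_mul,
    Matrix.SpecialLinearGroup.coe_mul, RankOneRel.uMat_val, RankOneRel.uMat_val, RankOneRel.vMat_val,
    RankOneRel.vMat_val]
  show _ = !![(1 : F), 0; a / m, 1] * !![(m : F), 0; 0, ((m⁻¹ : Fˣ) : F)] * !![1, b / m; 0, 1]
  ext i j; fin_cases i <;> fin_cases j <;> simp [Matrix.mul_apply, Fin.sum_univ_two] <;> field_simp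
  all_goals first | linear_combination hm | linear_combination -hm

theorem hom_dgSL (i : Fin chevG2.rank) (m : Fˣ) :
    (rankOneAt hW F i).hom (dgSL m) = hT F (pRoot hW i) m := by
  show (rankOneAt hW F i).map (dgSL m) = _
  rw [(rankOneAt hW F i).map_lower (dgSL m) (by simp [dgSL]) m (by simp [dgSL]),
    show (dgSL m).1 0 1 / (dgSL m).1 0 0 = 0 by simp [dgSL], RankOneRel.x_zero, mul_one]
  rfl

/-- The move at the short simple root. -/
theorem x7_x4 (b a : F) (m : Fˣ) (hm : (m : F) = 1 + a * b) :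
    x 7 b * x 4 a = x 4 (a / m) * tr m 1 * x 7 (b / m) := by
  have h := congrArg (rankOneAt hW F i0).hom (sl2_swap b a m hm)
  have hu : ∀ z : F, (rankOneAt hW F i0).hom (uMat F z) = x 7 z := (rankOneAt hW F i0).map_uMat
  have hv : ∀ z : F, (rankOneAt hW F i0).hom (vMat F z) = x 4 z := (rankOneAt hW F i0).map_vMat
  rw [map_mul, map_mul, map_mul, hu, hu, hv, hv, hom_dgSL, pRoot_zero] at h
  rw [h, tr_eq, hT_one, mul_one]

/-- The move at the long simple root. -/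
theorem x6_x5 (b a : F) (m : Fˣ) (hm : (m : F) = 1 + a * b) :
    x 6 b * x 5 a = x 5 (a / m) * tr 1 m * x 6 (b / m) := by
  have h := congrArg (rankOneAt hW F i1).hom (sl2_swap b a m hm)
  have hu : ∀ z : F, (rankOneAt hW F i1).hom (uMat F z) = x 6 z := (rankOneAt hW F i1).map_uMat
  have hv : ∀ z : F, (rankOneAt hW F i1).hom (vMat F z) = x 5 z := (rankOneAt hW F i1).map_vMat
  rw [map_mul, map_mul, map_mul, hu, hu, hv, hv, hom_dgSL, pRoot_one] at h
  rw [h, tr_eq, hT_one, one_mul]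

/-- The longest reflection. -/
def nw : GL chevG2.Idx F := n i1 * np

theorem nw_mem_group : (nw : GL chevG2.Idx F) ∈ chevG2.group F := mul_mem (n_mem_group _) np_mem_group

theorem nw_conj (g : GL chevG2.Idx F) :
    conj nw g = conj (n i1) (conj (n i0) (conj (n i1) (conj (n i0) (conj (n i1) (conj (n i0) g))))) := by
  rw [nw, ← np_conj]; simp only [conj]; group

theorem nw_conj_tr (c0 c1 : Fˣ) : conj (nw : GL chevG2.Idx F) (tr c0 c1) = tr c0⁻¹ c1⁻¹ := by
  rw [nw_conj, n0_conj_tr, n1_conj_tr, n0_conj_tr, n1_conj_tr, n0_conj_tr, n1_conj_tr]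
  congr 1 <;> refine Units.ext ?_ <;> simp <;> field_simp

/-- The check that six reflections carry `L` into `L'`. -/
def wchk (L L' : List ℕ) : Bool :=
  L.all fun r => L'.contains (chevG2.reflectRoot (i1 : ℕ) (chevG2.reflectRoot (i0 : ℕ)
    (chevG2.reflectRoot (i1 : ℕ) (chevG2.reflectRoot (i0 : ℕ) (chevG2.reflectRoot (i1 : ℕ)
      (chevG2.reflectRoot (i0 : ℕ) r))))))

theorem n_conj_rs_map (i : Fin chevG2.rank) (L : List ℕ) {u : GL chevG2.Idx F} (hu : u ∈ rs F L) :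
    conj (n i) u ∈ rs F (L.map fun r => chevG2.reflectRoot i r) :=
  n_conj_rs (List.all_eq_true.2 fun r hr => List.contains_iff_mem.2 (List.mem_map.2 ⟨r, hr, rfl⟩)) hu

theorem nw_conj_rs {L L' : List ℕ} (h : wchk L L' = true) {u : GL chevG2.Idx F} (hu : u ∈ rs F L) :
    conj nw u ∈ rs F L' := by
  rw [nw_conj]
  refine rs_mono ?_ (n_conj_rs_map _ _ (n_conj_rs_map _ _ (n_conj_rs_map _ _ (n_conj_rs_map _ _
    (n_conj_rs_map _ _ (n_conj_rs_map _ _ hu))))))
  intro r hr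
  simp only [List.map_map, List.mem_map, Function.comp_apply] at hr
  obtain ⟨a, ha, rfl⟩ := hr
  exact List.contains_iff_mem.1 (List.all_eq_true.1 h a ha)

theorem nw_conj_x4 (z : F) : conj nw (x 4 z) = x 7 (-z) := by
  rw [nw_conj, n_conj_x i0 (k := 4) (k' := 7) (z := -1) rfl rfl,
      n_conj_x i1 (k := 7) (k' := 8) (z := 1) rfl rfl, n_conj_x i0 (k := 8) (k' := 9) (z := 1) rfl rfl,
      n_conj_x i1 (k := 9) (k' := 9) (z := 1) rfl rfl, n_conj_x i0 (k := 9) (k' := 8) (z := -1) rfl rfl,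
      n_conj_x i1 (k := 8) (k' := 7) (z := -1) rfl rfl]
  congr 1; simp

theorem nw_conj_x5 (z : F) : conj nw (x 5 z) = x 6 (-z) := by
  rw [nw_conj, n_conj_x i0 (k := 5) (k' := 1) (z := 1) rfl rfl,
      n_conj_x i1 (k := 1) (k' := 0) (z := 1) rfl rfl, n_conj_x i0 (k := 0) (k' := 0) (z := 1) rfl rfl,
      n_conj_x i1 (k := 0) (k' := 1) (z := -1) rfl rfl, n_conj_x i0 (k := 1) (k' := 5) (z := -1) rfl rfl,
      n_conj_x i1 (k := 5) (k' := 6) (z := -1) rfl rfl]
  congr 1; simp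

theorem conj_inv' {G : Type*} [Group G] (g a : G) : conj g a⁻¹ = (conj g a)⁻¹ := by
  simp only [conj]; group

theorem Sq.inv {N : Fˣ} {s : F} {g : GL chevG2.Idx F} (h : Sq (x0 N s) g) : Sq (x0 N s) g⁻¹ := by
  obtain ⟨u, hu, v, hv, rfl⟩ := h
  obtain ⟨r, hr, e⟩ := x0_real N s
  exact ⟨v * r, mul_mem hv hr, u * r, mul_mem hu hr, by
    rw [← conj_conj, ← conj_conj, e, _root_.mul_inv_rev, conj_inv', conj_inv']⟩

theorem Sq.of_mirror {N : Fˣ} {s : F} {g : GL chevG2.Idx F} (h : Sq (x0 N s) (conj nw g⁻¹)) :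
    Sq (x0 N s) g := by
  have := (h.of_conj nw_mem_group).inv
  rwa [inv_inv] at this

end CfsgLib.G2Square
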